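import Mathlib
import Cfsg.Prelude.Def_CaseTheorems

/-!
# Sylow 2-subgroups of subgroups, 2-cores of subgroups (helper317)

`cj g H` the conjugate, `IsSyl P M` (a Sylow 2-subgroup of the subgroup `M`), `O2 M` (the 2-core of the
subgroup `M`, as a subgroup of the ambient group), `TC M` (2-closed), `Z1 D = Ω₁(Z(D))`.
-/

set_option autoImplicit false

namespace Cfsg.Agent.H317

open Subgroup

variable {G : Type*} [Group G]

/-! ### conjugates -/

/-- the conjugate `g H g⁻¹` -/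
def cj (g : G) (H : Subgroup G) : Subgroup G := H.map (MulAut.conj g).toMonoidHom

theorem mem_cj {g x : G} {H : Subgroup G} : x ∈ cj g H ↔ g⁻¹ * x * g ∈ H := by
  unfold cj
  rw [mem_map]
  constructor
  · rintro ⟨y, hy, rfl⟩
    simpa [mul_assoc] using hy
  · intro h
    exact ⟨_, h, by simp [mul_assoc]⟩

theorem conj_mem_cj {g x : G} {H : Subgroup G} (h : x ∈ H) : g * x * g⁻¹ ∈ cj g H := by
  rw [mem_cj]
  simpa [mul_assoc] using h

theorem conj_mem_cj_iff {g x : G} {H : Subgroup G} : g * x * g⁻¹ ∈ cj g H ↔ x ∈ H := by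
  rw [mem_cj]
  simp [mul_assoc]

theorem cj_cj (g h : G) (H : Subgroup G) : cj g (cj h H) = cj (g * h) H := by
  ext x
  simp only [mem_cj, mul_inv_rev, mul_assoc]

@[simp] theorem cj_one (H : Subgroup G) : cj 1 H = H := by
  ext x
  simp [mem_cj]

theorem cj_mono {g : G} {H K : Subgroup G} (h : H ≤ K) : cj g H ≤ cj g K := Subgroup.map_mono h

theorem cj_le_cj {g : G} {H K : Subgroup G} : cj g H ≤ cj g K ↔ H ≤ K := by
  constructor
  · intro h x hx
    exact conj_mem_cj_iff.1 (h (conj_mem_cj (g := g) hx))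
  · exact cj_mono

theorem cj_inj {g : G} {H K : Subgroup G} (h : cj g H = cj g K) : H = K :=
  le_antisymm (cj_le_cj.1 h.le) (cj_le_cj.1 h.ge)

theorem cj_inf (g : G) (H K : Subgroup G) : cj g (H ⊓ K) = cj g H ⊓ cj g K := by
  ext x
  simp only [mem_inf, mem_cj]

theorem cj_sup (g : G) (H K : Subgroup G) : cj g (H ⊔ K) = cj g H ⊔ cj g K := Subgroup.map_sup _ _ _

theorem cj_inv_cj (g : G) (H : Subgroup G) : cj g⁻¹ (cj g H) = H := by rw [cj_cj]; simp

theorem cj_cj_inv (g : G) (H : Subgroup G) : cj g (cj g⁻¹ H) = H := by rw [cj_cj]; simp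

theorem card_cj (g : G) (H : Subgroup G) : Nat.card (cj g H) = Nat.card H :=
  Subgroup.card_map_of_injective (MulAut.conj g).injective

theorem isPGroup_cj {g : G} {H : Subgroup G} {p : ℕ} (h : IsPGroup p H) : IsPGroup p (cj g H) := h.map _

theorem cj_eq_iff {g : G} {H : Subgroup G} : cj g H = H ↔ g ∈ normalizer (H : Set G) := by
  rw [mem_normalizer_iff]
  constructor
  · intro h x
    have h2 : g * x * g⁻¹ ∈ cj g H ↔ x ∈ H := conj_mem_cj_iff
    rw [h] at h2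
    exact h2.symm
  · intro h
    ext x
    rw [mem_cj, h]
    simp [mul_assoc]

theorem cj_eq_of_mem {g : G} {H : Subgroup G} (h : g ∈ H) : cj g H = H :=
  cj_eq_iff.2 (le_normalizer h)

theorem cj_ne_bot {g : G} {H : Subgroup G} (h : H ≠ ⊥) : cj g H ≠ ⊥ := by
  intro h1
  apply h
  rw [eq_bot_iff]
  intro x hx
  have h2 : g * x * g⁻¹ ∈ cj g H := conj_mem_cj hx
  rw [h1, mem_bot] at h2
  rw [mem_bot]
  have h3 : x = g⁻¹ * (g * x * g⁻¹) * g := by group
  rw [h3, h2]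
  simp

theorem cj_normalizer (g : G) (H : Subgroup G) :
    cj g (normalizer (H : Set G)) = normalizer (cj g H : Set G) := by
  ext x
  rw [mem_cj, ← cj_eq_iff, ← cj_eq_iff]
  constructor
  · intro h
    have h1 := congrArg (cj g) h
    rw [cj_cj, ← mul_assoc, ← mul_assoc, mul_inv_cancel, one_mul, ← cj_cj] at h1
    exact h1
  · intro h
    apply cj_inj (g := g)
    rw [cj_cj, ← mul_assoc, ← mul_assoc, mul_inv_cancel, one_mul, ← cj_cj]
    exact h

theorem mem_normalizer_of_le [Finite G] {g : G} {H : Subgroup G} (h : cj g H ≤ H) :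
    g ∈ normalizer (H : Set G) := by
  rw [← cj_eq_iff]
  exact Subgroup.eq_of_le_of_card_ge h (card_cj g H).ge

theorem mem_normalizer_of_forall [Finite G] {g : G} {H : Subgroup G} (h : ∀ x ∈ H, g * x * g⁻¹ ∈ H) :
    g ∈ normalizer (H : Set G) := by
  apply mem_normalizer_of_le
  intro x hx
  rw [mem_cj] at hx
  have := h _ hx
  simpa [mul_assoc] using this

theorem conj_mem_of_mem_normalizer {g x : G} {H : Subgroup G} (hg : g ∈ normalizer (H : Set G))
    (hx : x ∈ H) : g * x * g⁻¹ ∈ H := (mem_normalizer_iff.1 hg x).1 hx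

theorem inv_conj_mem_of_mem_normalizer {g x : G} {H : Subgroup G} (hg : g ∈ normalizer (H : Set G))
    (hx : x ∈ H) : g⁻¹ * x * g ∈ H := by
  have := conj_mem_of_mem_normalizer (inv_mem hg) hx
  simpa using this

/-! ### Sylow 2-subgroups of a subgroup -/

/-- `P` is a Sylow 2-subgroup of `M` -/
structure IsSyl (P M : Subgroup G) : Prop where
  le : P ≤ M
  pg : IsPGroup 2 P
  max : ∀ Q : Subgroup G, P ≤ Q → Q ≤ M → IsPGroup 2 Q → Q = P

theorem isSyl_of_sylow {M : Subgroup G} (P : Sylow 2 M) : IsSyl ((P : Subgroup M).map M.subtype) M where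
  le := map_subtype_le _
  pg := P.isPGroup'.map _
  max Q h1 h2 h3 := by
    have h4 : IsPGroup 2 (Q.subgroupOf M) := h3.comap_of_injective M.subtype M.subtype_injective
    have h5 : (P : Subgroup M) ≤ Q.subgroupOf M := by
      rw [← map_subtype_le_map_subtype, subgroupOf_map_subtype]
      exact le_inf h1 (map_subtype_le _)
    have h6 := P.is_maximal' h4 h5
    rw [← h6, subgroupOf_map_subtype, inf_eq_left.2 h2]

theorem IsSyl.exists_sylow {P M : Subgroup G} (h : IsSyl P M) :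
    ∃ Q : Sylow 2 M, P = (Q : Subgroup M).map M.subtype := by
  refine ⟨⟨P.subgroupOf M, h.pg.comap_of_injective M.subtype M.subtype_injective, ?_⟩, ?_⟩
  · intro Q hQ hle
    have h1 : P ≤ Q.map M.subtype := by
      have h2 := map_mono (f := M.subtype) hle
      rw [subgroupOf_map_subtype, inf_eq_left.2 h.le] at h2
      exact h2
    have h3 := h.max (Q.map M.subtype) h1 (map_subtype_le _) (hQ.map _)
    rw [← h3]
    exact (comap_map_eq_self_of_injective M.subtype_injective Q).symm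
  · show P = (P.subgroupOf M).map M.subtype
    rw [subgroupOf_map_subtype, inf_eq_left.2 h.le]

theorem exists_isSyl [Finite G] {D M : Subgroup G} (hD : D ≤ M) (h2 : IsPGroup 2 D) :
    ∃ P, IsSyl P M ∧ D ≤ P := by
  obtain ⟨Q, hQ⟩ := (h2.comap_of_injective M.subtype M.subtype_injective).exists_le_sylow
  refine ⟨_, isSyl_of_sylow Q, ?_⟩
  have h3 := map_mono (f := M.subtype) hQ
  change (D.subgroupOf M).map M.subtype ≤ _ at h3
  rwa [subgroupOf_map_subtype, inf_eq_left.2 hD] at h3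

theorem exists_isSyl' [Finite G] (M : Subgroup G) : ∃ P, IsSyl P M := by
  obtain ⟨P, h, -⟩ := exists_isSyl (bot_le : (⊥ : Subgroup G) ≤ M) IsPGroup.of_bot
  exact ⟨P, h⟩

theorem IsSyl.exists_cj [Finite G] {P Q M : Subgroup G} (hP : IsSyl P M) (hQ : IsSyl Q M) :
    ∃ m ∈ M, cj m P = Q := by
  obtain ⟨P', rfl⟩ := hP.exists_sylow
  obtain ⟨Q', rfl⟩ := hQ.exists_sylow
  haveI : Fact (Nat.Prime 2) := ⟨Nat.prime_two⟩
  obtain ⟨g, hg⟩ := MulAction.exists_smul_eq M P' Q'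
  refine ⟨g, g.2, ?_⟩
  ext x
  rw [mem_cj, ← hg]
  constructor
  · rintro ⟨y, hy, hyx⟩
    refine ⟨g * y * g⁻¹, ?_, ?_⟩
    · rw [SetLike.mem_coe, Sylow.coe_subgroup_smul, Subgroup.mem_pointwise_smul_iff_inv_smul_mem]
      have hy' : y ∈ (P' : Subgroup M) := hy
      simpa [mul_assoc, MulAut.smul_def] using hy'
    · change (g : G) * (y : G) * (g : G)⁻¹ = x
      rw [show (y : G) = (g : G)⁻¹ * x * g from hyx]
      group
  · rintro ⟨y, hy, rfl⟩
    refine ⟨g⁻¹ * y * g, ?_, ?_⟩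
    · rw [SetLike.mem_coe, Sylow.coe_subgroup_smul, Subgroup.mem_pointwise_smul_iff_inv_smul_mem] at hy
      show g⁻¹ * y * g ∈ (P' : Subgroup M)
      simpa [mul_assoc, MulAut.smul_def] using hy
    · simp

theorem IsSyl.cj_mem [Finite G] {P M : Subgroup G} (hP : IsSyl P M) (g : G) : IsSyl (cj g P) (cj g M) where
  le := cj_mono hP.le
  pg := isPGroup_cj hP.pg
  max Q h1 h2 h3 := by
    have h4 := hP.max (cj g⁻¹ Q) (by rw [← cj_le_cj (g := g), cj_cj_inv]; exact h1)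
      (by rw [← cj_le_cj (g := g), cj_cj_inv]; exact h2) (isPGroup_cj h3)
    rw [← h4, cj_cj_inv]

theorem IsSyl.cj_self [Finite G] {P M : Subgroup G} (hP : IsSyl P M) {m : G} (hm : m ∈ M) :
    IsSyl (cj m P) M := by
  have := hP.cj_mem m
  rwa [cj_eq_of_mem hm] at this

theorem IsSyl.card_eq [Finite G] {P Q M : Subgroup G} (hP : IsSyl P M) (hQ : IsSyl Q M) :
    Nat.card P = Nat.card Q := by
  obtain ⟨m, -, rfl⟩ := hP.exists_cj hQ
  exact (card_cj m P).symm

theorem IsSyl.of_le {P M N : Subgroup G} (hP : IsSyl P M) (h1 : P ≤ N) (h2 : N ≤ M) : IsSyl P N where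
  le := h1
  pg := hP.pg
  max Q h3 h4 h5 := hP.max Q h3 (h4.trans h2) h5

theorem IsSyl.card_le [Finite G] {P M Q : Subgroup G} (hP : IsSyl P M) (hQ : Q ≤ M) (h2 : IsPGroup 2 Q) :
    Nat.card Q ≤ Nat.card P := by
  obtain ⟨R, hR, hQR⟩ := exists_isSyl hQ h2
  exact (Subgroup.card_le_of_le hQR).trans (hP.card_eq hR).ge

theorem IsSyl.of_card [Finite G] {P M Q : Subgroup G} (hP : IsSyl P M) (hQ : Q ≤ M) (h2 : IsPGroup 2 Q)
    (h3 : Nat.card P ≤ Nat.card Q) : IsSyl Q M where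
  le := hQ
  pg := h2
  max R h4 h5 h6 := (Subgroup.eq_of_le_of_card_ge h4 ((hP.card_le h5 h6).trans h3)).symm

/-- a Sylow subgroup of a subgroup containing a Sylow subgroup -/
theorem IsSyl.up [Finite G] {P M N Q : Subgroup G} (hP : IsSyl P M) (hPN : P ≤ N) (hN : N ≤ M)
    (hQ : IsSyl Q N) : IsSyl Q M :=
  hP.of_card (hQ.le.trans hN) hQ.pg ((hP.of_le hPN hN).card_eq hQ).le

/-- a 2-subgroup normalizing a Sylow 2-subgroup is inside it -/
theorem IsSyl.le_of_normalizer [Finite G] {P M Q : Subgroup G} (hP : IsSyl P M) (hQ : Q ≤ M)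
    (h2 : IsPGroup 2 Q) (hn : Q ≤ normalizer (P : Set G)) : Q ≤ P := by
  have h3 : IsPGroup 2 (P ⊔ Q : Subgroup G) := by
    rw [sup_comm]
    exact h2.to_sup_of_normal_right' hP.pg hn
  have h4 := hP.max (P ⊔ Q) le_sup_left (sup_le hP.le hQ) h3
  rw [← h4]
  exact le_sup_right

/-- 2-elements -/
def TE (x : G) : Prop := ∃ k : ℕ, x ^ (2 ^ k) = 1

theorem TE.of_pg {P : Subgroup G} (h : IsPGroup 2 P) {x : G} (hx : x ∈ P) : TE x := by
  obtain ⟨k, hk⟩ := h ⟨x, hx⟩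
  exact ⟨k, by simpa using congrArg Subtype.val hk⟩

theorem TE.zpowers {x : G} (h : TE x) : IsPGroup 2 (zpowers x) := by
  obtain ⟨k, hk⟩ := h
  intro y
  obtain ⟨n, hn⟩ := mem_zpowers_iff.1 y.2
  refine ⟨k, Subtype.ext ?_⟩
  simp only [coe_pow, coe_one, ← hn]
  rw [← zpow_natCast, ← zpow_mul, mul_comm, zpow_mul, zpow_natCast, hk, one_zpow]

theorem TE.of_sq {x : G} (h : x * x = 1) : TE x := ⟨1, by rw [pow_one, pow_two]; exact h⟩

theorem IsSyl.mem_of_normalizer [Finite G] {P M : Subgroup G} (hP : IsSyl P M) {x : G} (hx : x ∈ M)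
    (h2 : TE x) (hn : x ∈ normalizer (P : Set G)) : x ∈ P :=
  hP.le_of_normalizer (zpowers_le.2 hx) h2.zpowers (zpowers_le.2 hn) (mem_zpowers x)

theorem TE.exists_isSyl [Finite G] {x : G} (h : TE x) {M : Subgroup G} (hx : x ∈ M) :
    ∃ P, IsSyl P M ∧ x ∈ P := by
  obtain ⟨P, hP, h1⟩ := Cfsg.Agent.H317.exists_isSyl (zpowers_le.2 hx) h.zpowers
  exact ⟨P, hP, h1 (mem_zpowers x)⟩

/-! ### the 2-core of a subgroup -/

/-- the 2-core of the subgroup `M` -/
def O2 (M : Subgroup G) : Subgroup G := (Cfsg.pCore 2 M).map M.subtype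

theorem O2_le (M : Subgroup G) : O2 M ≤ M := map_subtype_le _

theorem le_O2 {M N : Subgroup G} (h1 : N ≤ M) (h2 : IsPGroup 2 N) (h3 : M ≤ normalizer (N : Set G)) :
    N ≤ O2 M := by
  have h4 : (N.subgroupOf M).Normal := by
    constructor
    intro n hn g
    rw [mem_subgroupOf] at hn ⊢
    exact conj_mem_of_mem_normalizer (h3 g.2) hn
  have h5 : N.subgroupOf M ≤ Cfsg.pCore 2 M :=
    le_sSup ⟨h4, h2.comap_of_injective M.subtype M.subtype_injective⟩
  have h6 := map_mono (f := M.subtype) h5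
  rwa [subgroupOf_map_subtype, inf_eq_left.2 h1] at h6

theorem O2_le_normalizer (M : Subgroup G) : M ≤ normalizer (O2 M : Set G) := by
  intro m hm
  rw [mem_normalizer_iff]
  intro x
  have key : ∀ (m : M) (x : G), x ∈ O2 M → (m : G) * x * (m : G)⁻¹ ∈ O2 M := by
    rintro m _ ⟨y, hy, rfl⟩
    exact ⟨m * y * m⁻¹, (Cfsg.pCore_normal 2 M).conj_mem y hy m, by simp⟩
  constructor
  · exact key ⟨m, hm⟩ x
  · intro h
    have h1 := key ⟨m, hm⟩⁻¹ _ h
    simpa [mul_assoc] using h1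

theorem O2_conj {M : Subgroup G} {m x : G} (hm : m ∈ M) (hx : x ∈ O2 M) : m * x * m⁻¹ ∈ O2 M :=
  conj_mem_of_mem_normalizer (O2_le_normalizer M hm) hx

theorem O2_le_of_isSyl [Finite G] {P M : Subgroup G} (h : IsSyl P M) : O2 M ≤ P := by
  haveI : Fact (Nat.Prime 2) := ⟨Nat.prime_two⟩
  obtain ⟨Q, rfl⟩ := h.exists_sylow
  apply map_mono
  refine sSup_le ?_
  rintro N ⟨hN, hN2⟩
  haveI := hN
  obtain ⟨R, hR⟩ := hN2.exists_le_sylow
  obtain ⟨g, hg⟩ := MulAction.exists_smul_eq M R Q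
  intro x hx
  rw [← hg]
  show x ∈ ((g • R : Sylow 2 M) : Subgroup M)
  rw [Sylow.coe_subgroup_smul, Subgroup.mem_pointwise_smul_iff_inv_smul_mem]
  apply hR
  have := hN.conj_mem x hx g⁻¹
  simpa [MulAut.smul_def] using this

theorem O2_pg [Finite G] (M : Subgroup G) : IsPGroup 2 (O2 M) := by
  obtain ⟨P, hP⟩ := exists_isSyl' M
  exact hP.pg.to_le (O2_le_of_isSyl hP)

theorem O2_cj [Finite G] (g : G) (M : Subgroup G) : O2 (cj g M) = cj g (O2 M) := by
  have key : ∀ (g : G) (M : Subgroup G), cj g (O2 M) ≤ O2 (cj g M) := by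
    intro g M
    apply le_O2 (cj_mono (O2_le M)) (isPGroup_cj (O2_pg M))
    rw [← cj_normalizer]
    exact cj_mono (O2_le_normalizer M)
  apply le_antisymm _ (key g M)
  have h1 := key g⁻¹ (cj g M)
  rw [cj_inv_cj] at h1
  have h2 := cj_mono (g := g) h1
  rwa [cj_cj_inv] at h2

/-! ### 2-closed -/

/-- `M` is 2-closed: all 2-elements lie in the 2-core. -/
def TC (M : Subgroup G) : Prop := ∀ x ∈ M, TE x → x ∈ O2 M

theorem TC.mono [Finite G] {X M : Subgroup G} (h : TC M) (hX : X ≤ M) : TC X := by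
  intro x hx h2
  have h3 : X ⊓ O2 M ≤ O2 X := by
    apply le_O2 inf_le_left ((O2_pg M).to_le inf_le_right)
    intro y hy
    apply mem_normalizer_of_forall
    rintro z ⟨hz1, hz2⟩
    exact ⟨X.mul_mem (X.mul_mem hy hz1) (X.inv_mem hy), O2_conj (hX hy) hz2⟩
  exact h3 ⟨hx, h x (hX hx) h2⟩

theorem TC.isSyl_eq [Finite G] {P M : Subgroup G} (h : TC M) (hP : IsSyl P M) : P = O2 M := by
  apply le_antisymm _ (O2_le_of_isSyl hP)
  intro x hx
  exact h x (hP.le hx) (TE.of_pg hP.pg hx)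

theorem TC_of_forall [Finite G] {P M : Subgroup G} (hP : IsSyl P M) (h : ∀ m ∈ M, cj m P = P) : TC M := by
  intro x hx h2
  obtain ⟨Q, hQ, hxQ⟩ := h2.exists_isSyl hx
  obtain ⟨m, hm, rfl⟩ := hP.exists_cj hQ
  rw [h m hm] at hxQ
  apply le_O2 hP.le hP.pg _ hxQ
  intro y hy
  exact cj_eq_iff.1 (h y hy)

theorem TC_of_le [Finite G] {P M : Subgroup G} (hP : IsSyl P M) (h : P ≤ O2 M) : TC M := by
  apply TC_of_forall hP
  intro m hm
  have h1 : P = O2 M := le_antisymm h (O2_le_of_isSyl hP)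
  rw [h1]
  exact cj_eq_iff.2 (O2_le_normalizer M hm)

theorem exists_cj_ne [Finite G] {P M : Subgroup G} (hP : IsSyl P M) (h : ¬ TC M) : ∃ m ∈ M, cj m P ≠ P := by
  by_contra hcon
  push Not at hcon
  exact h (TC_of_forall hP hcon)

theorem TC_iff_normal [Finite G] {M : Subgroup G} (P : Sylow 2 M) : TC M ↔ (P : Subgroup M).Normal := by
  have hS := isSyl_of_sylow P
  constructor
  · intro h
    have h1 := h.isSyl_eq hS
    constructor
    intro n hn g
    have h2 : (n : G) ∈ O2 M := by rw [← h1]; exact ⟨n, hn, rfl⟩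
    have h3 := O2_conj g.2 h2
    rw [← h1] at h3
    obtain ⟨y, hy, hyx⟩ := h3
    have h4 : y = g * n * g⁻¹ := Subtype.ext (by simpa using hyx)
    rwa [← h4]
  · intro h
    apply TC_of_forall hS
    intro m hm
    apply cj_eq_iff.2
    apply mem_normalizer_of_forall
    rintro _ ⟨y, hy, rfl⟩
    exact ⟨⟨m, hm⟩ * y * ⟨m, hm⟩⁻¹, h.conj_mem y hy _, by simp⟩

/-! ### `Ω₁(Z(D))` -/

/-- `Ω₁(Z(D))` -/
def Z1 (D : Subgroup G) : Subgroup G where
  carrier := {x | x ∈ D ∧ (∀ y ∈ D, y * x = x * y) ∧ x * x = 1}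
  one_mem' := ⟨one_mem _, fun y _ => by simp, by simp⟩
  mul_mem' := by
    rintro a b ⟨ha, ha1, ha2⟩ ⟨hb, hb1, hb2⟩
    refine ⟨mul_mem ha hb, fun y hy => ?_, ?_⟩
    · rw [← mul_assoc, ha1 y hy, mul_assoc, hb1 y hy, mul_assoc]
    · rw [mul_assoc, ← mul_assoc b a b, hb1 a ha |>.symm, mul_assoc a b b, hb2, mul_one, ha2]
  inv_mem' := by
    rintro a ⟨ha, ha1, ha2⟩
    have h1 : a⁻¹ = a := inv_eq_of_mul_eq_one_left ha2
    rw [Set.mem_setOf_eq, h1]
    exact ⟨ha, ha1, ha2⟩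

theorem mem_Z1 {D : Subgroup G} {x : G} : x ∈ Z1 D ↔ x ∈ D ∧ (∀ y ∈ D, y * x = x * y) ∧ x * x = 1 := Iff.rfl

theorem Z1_le (D : Subgroup G) : Z1 D ≤ D := fun _ h => h.1

theorem Z1_comm {D : Subgroup G} {x y : G} (hx : x ∈ Z1 D) (hy : y ∈ D) : y * x = x * y := hx.2.1 y hy

theorem Z1_sq {D : Subgroup G} {x : G} (hx : x ∈ Z1 D) : x * x = 1 := hx.2.2

theorem cj_Z1 (g : G) (D : Subgroup G) : cj g (Z1 D) = Z1 (cj g D) := by
  ext x
  simp only [mem_cj, mem_Z1]
  constructor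
  · rintro ⟨h1, h2, h3⟩
    refine ⟨h1, fun y hy => ?_, ?_⟩
    · have h4 := h2 _ hy
      have h5 : y * x = g * (g⁻¹ * y * g * (g⁻¹ * x * g)) * g⁻¹ := by group
      rw [h5, h4]
      group
    · have h5 : x * x = g * (g⁻¹ * x * g * (g⁻¹ * x * g)) * g⁻¹ := by group
      rw [h5, h3]
      simp
  · rintro ⟨h1, h2, h3⟩
    refine ⟨h1, fun y hy => ?_, ?_⟩
    · have h4 := h2 (g * y * g⁻¹) (by simpa [mul_assoc] using hy)
      have h5 : y * (g⁻¹ * x * g) = g⁻¹ * (g * y * g⁻¹ * x) * g := by group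
      rw [h5, h4]
      group
    · have h5 : g⁻¹ * x * g * (g⁻¹ * x * g) = g⁻¹ * (x * x) * g := by group
      rw [h5, h3]
      simp

theorem Z1_normalizer (D : Subgroup G) : normalizer (D : Set G) ≤ normalizer (Z1 D : Set G) := by
  intro g hg
  rw [← cj_eq_iff] at hg ⊢
  rw [cj_Z1, hg]

theorem Z1_ne_bot [Finite G] {D : Subgroup G} (h : IsPGroup 2 D) (hD : D ≠ ⊥) : Z1 D ≠ ⊥ := by
  haveI : Fact (Nat.Prime 2) := ⟨Nat.prime_two⟩
  haveI : Nontrivial D := (Subgroup.nontrivial_iff_ne_bot D).2 hD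
  have h1 := h.center_nontrivial
  haveI : Nontrivial (center D) := h1
  have h2 : 2 ∣ Nat.card (center D) := by
    obtain ⟨n, hn⟩ := IsPGroup.iff_card.1 (h.to_subgroup (center D))
    have h3 : 1 < Nat.card (center D) := Finite.one_lt_card
    rw [hn] at h3 ⊢
    rcases n with _ | n
    · simp at h3
    · exact dvd_pow_self 2 (Nat.succ_ne_zero n)
  obtain ⟨⟨⟨z, hzD⟩, hz⟩, hz2⟩ := exists_prime_orderOf_dvd_card' 2 h2
  intro h3
  have h5 : z ∈ Z1 D := by
    refine ⟨hzD, fun y hy => ?_, ?_⟩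
    · have := mem_center_iff.1 hz ⟨y, hy⟩
      exact congrArg Subtype.val this
    · have h6 := pow_orderOf_eq_one (⟨⟨z, hzD⟩, hz⟩ : center D)
      rw [hz2, pow_two] at h6
      exact congrArg (fun t : center D => ((t : D) : G)) h6
  rw [h3, mem_bot] at h5
  subst h5
  have h6 : (⟨⟨1, hzD⟩, hz⟩ : center D) = 1 := rfl
  rw [h6, orderOf_one] at hz2
  norm_num at hz2

end Cfsg.Agent.H317
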