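import Cfsg.Agent.H317.Hyp
import Cfsg.Agent.S0028

/-!
# Centralizers of involutions under `Hyp` (helper317)
-/

set_option autoImplicit false

namespace Cfsg.Agent.H317

open Subgroup

variable {G : Type*} [Group G]

theorem comm_of_norm {A B : Subgroup G} (h1 : A ≤ normalizer (B : Set G)) (h2 : B ≤ normalizer (A : Set G))
    (h3 : A ⊓ B = ⊥) : ∀ a ∈ A, ∀ b ∈ B, a * b = b * a := by
  intro a ha b hb
  have h4 : a * b * a⁻¹ * b⁻¹ ∈ A ⊓ B := by
    refine mem_inf.2 ⟨?_, ?_⟩
    · have h5 : a * b * a⁻¹ * b⁻¹ = a * (b * a⁻¹ * b⁻¹) := by group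
      rw [h5]
      exact mul_mem ha (conj_mem_of_mem_normalizer (h2 hb) (inv_mem ha))
    · exact mul_mem (conj_mem_of_mem_normalizer (h1 ha) hb) (inv_mem hb)
  rw [h3, mem_bot] at h4
  calc a * b = (a * b * a⁻¹ * b⁻¹) * (b * a) := by group
    _ = b * a := by rw [h4, one_mul]

theorem self_mem_centralizer (t : G) : t ∈ centralizer ({t} : Set G) := mem_centralizer_singleton_iff.2 rfl

theorem mem_O2_centralizer {t : G} (ht : t * t = 1) [Finite G] : t ∈ O2 (centralizer ({t} : Set G)) := by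
  have h6 : zpowers t ≤ O2 (centralizer ({t} : Set G)) := by
    apply le_O2
    · rw [zpowers_le]
      exact self_mem_centralizer t
    · exact (TE.of_sq ht).zpowers
    · intro x hx
      apply mem_normalizer_of_forall
      intro w hw
      have h7 : w * x = x * w := by
        obtain ⟨k, rfl⟩ := mem_zpowers_iff.1 hw
        have h8 : Commute t x := (mem_centralizer_singleton_iff.1 hx).symm
        exact (h8.zpow_left k).eq
      rw [← h7]
      simpa using hw
  exact h6 (mem_zpowers t)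

/-- elements whose odd powers are trivial are 2-elements -/
theorem TE_of_odd [Finite G] {L : Subgroup G} (hL : ∀ x ∈ L, (orderOf x).Coprime 2 → x = 1) {x : G} (hx : x ∈ L) :
    TE x := by
  obtain ⟨k, m, hm, hkm⟩ := Nat.exists_eq_two_pow_mul_odd (n := orderOf x) (orderOf_pos x).ne'
  refine ⟨k, hL _ (pow_mem hx _) ?_⟩
  have h1 : orderOf (x ^ (2 ^ k)) = m := by
    rw [orderOf_pow, hkm, Nat.gcd_mul_right_left, Nat.mul_div_cancel_left _ (pow_pos (by norm_num) k)]
  rw [h1]
  exact Nat.coprime_two_right.2 hm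

theorem pg_of_TE {L : Subgroup G} (h : ∀ x ∈ L, TE x) : IsPGroup 2 L := by
  intro x
  obtain ⟨k, hk⟩ := h x x.2
  exact ⟨k, Subtype.ext (by simpa using hk)⟩

theorem TE.eq_one {x : G} (h : TE x) (h2 : (orderOf x).Coprime 2) : x = 1 := by
  obtain ⟨k, hk⟩ := h
  have h3 : orderOf x ∣ 2 ^ k := orderOf_dvd_of_pow_eq_one hk
  have h4 : (orderOf x).Coprime (2 ^ k) := Nat.Coprime.pow_right k h2
  have h5 := Nat.eq_one_of_self_dvd_coprime' h3 h4
  exact orderOf_eq_one_iff.1 h5
where
  Nat.eq_one_of_self_dvd_coprime' {a b : ℕ} (h1 : a ∣ b) (h2 : Nat.Coprime a b) : a = 1 := by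
    have h3 : Nat.gcd a b = a := Nat.gcd_eq_left h1
    rw [← h3]
    exact h2

variable [Finite G]

/-- **P × Q.** An element of odd order in `C(t)` centralizing `O₂(C(t))` is trivial when `C(t)` is not 2-closed. -/
theorem Hyp.odd_trivial (h : Hyp G) {t : G} (ht : t * t = 1) (ht1 : t ≠ 1) (hn : ¬ TC (centralizer ({t} : Set G)))
    {x : G} (hx : x ∈ centralizer ({t} : Set G)) (hodd : (orderOf x).Coprime 2)
    (hc : ∀ y ∈ O2 (centralizer ({t} : Set G)), x * y = y * x) : x = 1 := by
  haveI : Fact (Nat.Prime 2) := ⟨Nat.prime_two⟩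
  set X := centralizer ({t} : Set G) with hX
  have htO : t ∈ O2 X := mem_O2_centralizer ht
  obtain ⟨M, hM, hXM⟩ := Hyp.exists_InM hn (ne_bot_of_mem htO ht1)
  have h1 := h.O2_eq_inf hM hXM hn
  have h2 : zpowers x ≤ centralizer (O2 M : Set G) := by
    apply Cfsg.Agent.S0028.result 2 (zpowers t) (zpowers x) (O2 M) (TE.of_sq ht).zpowers
      (by rw [Nat.card_zpowers]; exact hodd) (O2_pg M)
    · rw [zpowers_le, mem_centralizer_iff]
      rintro y hy
      obtain ⟨k, rfl⟩ := mem_zpowers_iff.1 hy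
      have h8 : Commute x t := mem_centralizer_singleton_iff.1 hx
      exact (h8.zpow_left k).eq
    · rw [zpowers_le]
      exact O2_le_normalizer M (hXM (O2_le X htO))
    · rw [zpowers_le]
      exact O2_le_normalizer M (hXM hx)
    · rintro y ⟨hy1, hy2⟩
      rw [mem_centralizer_iff]
      have hyX : y ∈ X := by
        rw [hX, mem_centralizer_singleton_iff]
        exact (mem_centralizer_iff.1 hy2 t (mem_zpowers t)).symm
      have hyO : y ∈ O2 X := by
        rw [h1]
        exact ⟨hyX, hy1⟩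
      intro w hw
      obtain ⟨k, rfl⟩ := mem_zpowers_iff.1 hw
      have h8 : Commute x y := hc y hyO
      exact (h8.zpow_left k).eq
  have h3 : x ∈ O2 M := h.cent M hM (h2 (mem_zpowers x))
  exact (TE.of_pg (O2_pg M) h3).eq_one hodd

/-- a normal subgroup of `C(t)` with trivial 2-core is 2-closed (so of odd order) -/
theorem Hyp.TC_of_norm (h : Hyp G) {t : G} (ht : t * t = 1) (ht1 : t ≠ 1) {L : Subgroup G}
    (hL : L ≤ centralizer ({t} : Set G)) (hn : centralizer ({t} : Set G) ≤ normalizer (L : Set G))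
    (hO : O2 L = ⊥) : TC L := by
  by_contra hTC
  apply hTC
  have hX : ¬ TC (centralizer ({t} : Set G)) := fun h1 => hTC (h1.mono hL)
  have h1 : L ⊓ O2 (centralizer ({t} : Set G)) = ⊥ := by
    rw [eq_bot_iff, ← hO]
    apply le_O2 inf_le_left ((O2_pg _).to_le inf_le_right)
    intro y hy
    apply mem_normalizer_of_forall
    rintro z ⟨hz1, hz2⟩
    exact ⟨L.mul_mem (L.mul_mem hy hz1) (L.inv_mem hy), O2_conj (hL hy) hz2⟩
  have h2 := comm_of_norm (hL.trans (O2_le_normalizer _)) ((O2_le _).trans hn) h1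
  have h3 : ∀ x ∈ L, (orderOf x).Coprime 2 → x = 1 := by
    intro x hx hodd
    exact h.odd_trivial ht ht1 hX (hL hx) hodd (h2 x hx)
  have h4 : IsPGroup 2 L := pg_of_TE fun x hx => TE_of_odd h3 hx
  intro x hx _
  exact le_O2 le_rfl h4 le_normalizer hx

end Cfsg.Agent.H317
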