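import Cfsg.Agent.H317.Fusion
import Cfsg.Agent.H317.PQ

/-!
# The case `Ω₁(Z(S)) = Ω₁(Z(O₂(M)))` (helper317)
-/

set_option autoImplicit false

namespace Cfsg.Agent.H317

open Subgroup

variable {G : Type*} [Group G] [Finite G]

theorem exists_fixed {B E : Subgroup G} (hB : IsPGroup 2 B) (hE : IsPGroup 2 E) (hE1 : E ≠ ⊥)
    (hn : B ≤ normalizer (E : Set G)) : ∃ e ∈ E, e ≠ 1 ∧ ∀ b ∈ B, b * e * b⁻¹ = e := by
  haveI : Fact (Nat.Prime 2) := ⟨Nat.prime_two⟩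
  letI act : MulAction B E :=
    { smul := fun b e => ⟨b * e * (b : G)⁻¹, conj_mem_of_mem_normalizer (hn b.2) e.2⟩
      one_smul := fun e => Subtype.ext (by
        show (1 : G) * e * (1 : G)⁻¹ = e
        simp)
      mul_smul := fun a b e => Subtype.ext (by
        show (a * b : G) * e * (a * b : G)⁻¹ = a * (b * e * (b : G)⁻¹) * (a : G)⁻¹
        group) }
  have hsm : ∀ (b : B) (e : E), ((b • e : E) : G) = b * e * (b : G)⁻¹ := fun _ _ => rfl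
  have h2 : 2 ∣ Nat.card E := by
    obtain ⟨n, hn⟩ := IsPGroup.iff_card.1 hE
    rcases n with _ | n
    · exfalso
      apply hE1
      rw [pow_zero] at hn
      exact Subgroup.card_eq_one.1 hn
    · rw [hn]
      exact dvd_pow_self 2 (Nat.succ_ne_zero n)
  obtain ⟨e, he, hne⟩ := hB.exists_fixed_point_of_prime_dvd_card_of_fixed_point (α := E) h2 (a := 1) (by
    intro b
    apply Subtype.ext
    rw [hsm]
    simp)
  refine ⟨e, e.2, fun h1 => hne (Subtype.ext h1.symm), fun b hb => ?_⟩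
  have h3 := he ⟨b, hb⟩
  have h4 := congrArg Subtype.val h3
  rwa [hsm] at h4

/-- one half of the configuration of two commuting `V`s -/
theorem half (h : Hyp G) {M M1 V T : Subgroup G} (hM : InM M) (hM1 : InM M1) (hV : V = Z1 (O2 M))
    (hT : T = Z1 (O2 M1)) (hVb : V ≠ ⊥)
    (hVT : ∀ v ∈ V, ∀ t ∈ T, v * t = t * v) (hTD : T ⊓ O2 M = ⊥) (hVD : V ⊓ O2 M1 = ⊥)
    (hcV : ∀ v ∈ V, v ≠ 1 → centralizer ({v} : Set G) ≤ M)
    (hcT : ∀ t ∈ T, t ≠ 1 → centralizer ({t} : Set G) ≤ M1)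
    (hZ1 : ∀ R, IsSyl R M1 → Z1 R = T) :
    ∃ y ∈ O2 M, (∀ t ∈ T, y * t * y⁻¹ * t⁻¹ ∈ V) ∧ ∀ t ∈ T, y * t * y⁻¹ * t⁻¹ = 1 → t = 1 := by
  set D := O2 M with hD
  obtain ⟨⟨v0, hv0⟩, hv01⟩ := Subgroup.ne_bot_iff_exists_ne_one.1 hVb
  have hv01 : v0 ≠ 1 := fun h1 => hv01 (Subtype.ext h1)
  have hVD' : V ≤ D := by rw [hV]; exact Z1_le _
  have hTM : T ≤ M := by
    intro t ht
    exact hcV v0 hv0 hv01 (mem_centralizer_singleton_iff.2 (hVT v0 hv0 t ht).symm)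
  have hTpg : IsPGroup 2 T := by rw [hT]; exact (O2_pg M1).to_le (Z1_le _)
  have hT2 : ∀ t ∈ T, t * t = 1 := by intro t ht; rw [hT] at ht; exact ht.2.2
  have hTn : T ≤ normalizer (D : Set G) := hTM.trans (O2_le_normalizer M)
  -- a Sylow of `M1` containing `V`
  have hTb : ∃ t ∈ T, t ≠ 1 := by
    have h1 := hM1.V_ne_bot
    rw [← hT] at h1
    obtain ⟨⟨t, ht⟩, ht1⟩ := Subgroup.ne_bot_iff_exists_ne_one.1 h1
    exact ⟨t, ht, fun h1 => ht1 (Subtype.ext h1)⟩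
  obtain ⟨t0, ht0, ht01⟩ := hTb
  have hVM1 : V ≤ M1 := by
    intro v hv
    exact hcT t0 ht0 ht01 (mem_centralizer_singleton_iff.2 (hVT v hv t0 ht0))
  obtain ⟨R, hR, hVR⟩ := exists_isSyl hVM1 ((O2_pg M).to_le hVD')
  have hZR := hZ1 R hR
  have hv0D1 : v0 ∉ O2 M1 := by
    intro h1
    have h2 : v0 ∈ V ⊓ O2 M1 := ⟨hv0, h1⟩
    rw [hVD, mem_bot] at h2
    exact hv01 h2
  set C0 := D ⊓ centralizer (T : Set G) with hC0
  have hC : ∀ t ∈ T, t ≠ 1 → ∀ d ∈ D, d * t = t * d → d ∈ C0 := by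
    intro t ht ht1 d hd hdt
    set K : Subgroup G := D ⊓ centralizer {t} with hK
    have h1 : K ≤ R := by
      apply h.syl_le hM1 hR (hVR hv0) hv0D1 (inf_le_right.trans (hcT t ht ht1))
        ((O2_pg M).to_le inf_le_left)
      exact ⟨hVD' hv0, mem_centralizer_singleton_iff.2 (hVT v0 hv0 t ht)⟩
    have h2 : d ∈ R := h1 ⟨hd, mem_centralizer_singleton_iff.2 hdt⟩
    refine mem_inf.2 ⟨hd, ?_⟩
    rw [mem_centralizer_iff]
    intro w hw
    have h3 : w ∈ Z1 R := by rw [hZR]; exact hw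
    exact (h3.2.1 d h2).symm
  -- the subgroup `C0 T` of `D T`
  have hC0T : ∀ c ∈ C0, ∀ t ∈ T, c * t = t * c := by
    intro c hc t ht
    exact (mem_centralizer_iff.1 hc.2 t ht).symm
  have hTC0 : T ≤ normalizer (C0 : Set G) := by
    intro t ht
    apply mem_normalizer_of_forall
    intro c hc
    rw [← hC0T c hc t ht]
    simpa using hc
  set U := T ⊔ C0 with hU
  set B := T ⊔ D with hB
  have hBpg : IsPGroup 2 B := hTpg.to_sup_of_normal_right' (O2_pg M) hTn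
  have hUD : ∀ u ∈ U, u ∈ D → u ∈ C0 := by
    intro u hu huD
    obtain ⟨t, ht, c, hc, rfl⟩ := mem_sup_of_norm hTC0 hu
    have h1 : t ∈ D := by
      have := mul_mem huD (inv_mem hc.1)
      simpa using this
    have h2 : t ∈ T ⊓ O2 M := ⟨ht, h1⟩
    rw [hTD, mem_bot] at h2
    rw [h2, one_mul]
    exact hc
  have hUB : U ≤ B := sup_le_sup le_rfl inf_le_left
  have hne : U ≠ B := by
    intro h1
    have h2 : D ≤ C0 := by
      intro d hd
      apply hUD d _ hd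
      rw [h1]
      exact Subgroup.mem_sup_right hd
    have h3 : t0 ∈ T ⊓ O2 M := by
      refine ⟨ht0, h.cent M hM ?_⟩
      rw [mem_centralizer_iff]
      intro d hd
      exact hC0T d (h2 hd) t0 ht0
    rw [hTD, mem_bot] at h3
    exact ht01 h3
  obtain ⟨x, hxB, hxU, hxn⟩ := exists_norm hUB hne hBpg
  obtain ⟨t1, ht1, y, hy, rfl⟩ := mem_sup_of_norm hTn hxB
  have hTU : T ≤ U := le_sup_left
  have hyU : y ∉ U := fun h1 => hxU (mul_mem (hTU ht1) h1)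
  have hyn : y ∈ normalizer (U : Set G) := by
    have h1 := mul_mem (inv_mem (le_normalizer (hTU ht1))) hxn
    have h2 : t1⁻¹ * (t1 * y) = y := by group
    rwa [h2] at h1
  have hcomm : ∀ t ∈ T, y * t * y⁻¹ * t⁻¹ ∈ C0 := by
    intro t ht
    apply hUD
    · exact mul_mem (conj_mem_of_mem_normalizer hyn (hTU ht)) (inv_mem (hTU ht))
    · have h1 : y * t * y⁻¹ * t⁻¹ = y * (t * y⁻¹ * t⁻¹) := by group
      rw [h1]
      exact mul_mem hy (O2_conj (hTM ht) (inv_mem hy))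
  refine ⟨y, hy, ?_, ?_⟩
  · intro t ht
    have h1 := hcomm t ht
    rw [hV]
    apply h.mem_V hM h1.1
    -- the map `t ↦ [y, t]` is a homomorphism
    have h2 : y * (t * t) * y⁻¹ * (t * t)⁻¹ = (y * t * y⁻¹ * t⁻¹) * (t * (y * t * y⁻¹ * t⁻¹) * t⁻¹) := by group
    rw [← hC0T _ h1 t ht] at h2
    rw [hT2 t ht] at h2
    have h3 : y * t * y⁻¹ * t⁻¹ * (y * t * y⁻¹ * t⁻¹ * t * t⁻¹) = (y * t * y⁻¹ * t⁻¹) * (y * t * y⁻¹ * t⁻¹) := by
      group
    rw [h3] at h2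
    rw [← h2]
    simp
  · intro t ht h1
    by_contra ht1'
    apply hyU
    apply Subgroup.mem_sup_right
    apply hC t ht ht1' y hy
    have h2 : y * t = (y * t * y⁻¹ * t⁻¹) * (t * y) := by group
    rw [h2, h1, one_mul]

section

variable (h : Hyp G) {M P : Subgroup G} (hM : InM M) (hP : IsSyl P M) (hPG : IsSyl P ⊤)
  (hz : Z1 P = Z1 (O2 M))

include hP hz in
theorem a1 {Q : Subgroup G} (hQ : IsSyl Q M) : Z1 Q = Z1 (O2 M) := by
  obtain ⟨m, hm, rfl⟩ := hP.exists_cj hQ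
  rw [← cj_Z1, hz]
  exact cj_eq_iff.2 (InM.le_norm_V hm)

include hM hP in
theorem not_TC_of_syl {Y : Subgroup G} (hY : ∀ Q, IsSyl Q M → Q ≤ Y) (hYM : Y ≤ M) : ¬ TC Y := by
  intro h1
  apply hM.ntc
  apply TC_of_forall hP
  intro m hm
  have h2 := h1.isSyl_eq (hP.of_le (hY _ hP) hYM)
  have h3 := h1.isSyl_eq ((hP.cj_self hm).of_le (hY _ (hP.cj_self hm)) hYM)
  rw [h3, ← h2]

include h hM hP hPG hz in
theorem a2 {v : G} (hv : v ∈ Z1 (O2 M)) (hv1 : v ≠ 1) : centralizer ({v} : Set G) ≤ M := by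
  set X := centralizer ({v} : Set G) with hX
  have hQX : ∀ Q, IsSyl Q M → Q ≤ X ⊓ M := by
    intro Q hQ
    refine le_inf ?_ hQ.le
    intro q hq
    rw [← a1 hP hz hQ] at hv
    exact mem_centralizer_singleton_iff.2 (hv.2.1 q hq)
  have hY := not_TC_of_syl hM hP hQX inf_le_right
  have hXn : ¬ TC X := fun h1 => hY (h1.mono inf_le_left)
  obtain ⟨M', hM', hXM'⟩ := Hyp.exists_InM hXn (ne_bot_of_mem (mem_O2_centralizer hv.2.2) hv1)
  have h1 := h.O2_eq_inf hM (inf_le_right : X ⊓ M ≤ M) hY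
  have h2 := h.O2_eq_inf hM' (inf_le_left.trans hXM' : X ⊓ M ≤ M') hY
  have hPM' : IsSyl P M' := hPG.of_le ((hQX P hP).trans (inf_le_left.trans hXM')) le_top
  have h3 : X ⊓ M ⊓ O2 M = O2 M := inf_eq_right.2 ((O2_le_of_isSyl hP).trans (hQX P hP))
  have h4 : X ⊓ M ⊓ O2 M' = O2 M' := inf_eq_right.2 ((O2_le_of_isSyl hPM').trans (hQX P hP))
  rw [h3] at h1
  rw [h4] at h2
  have h5 : M = M' := by
    rw [← hM.norm_O2, ← hM'.norm_O2, ← h1, ← h2]
  rw [h5]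
  exact hXM'

include h hM hP hPG hz in
theorem a3 {w g : G} (hw : w ∈ Z1 (O2 M)) (hw1 : w ≠ 1) (hw2 : w ∈ cj g (Z1 (O2 M))) : g ∈ M := by
  set Y := centralizer ({w} : Set G) with hY
  have hM1 := hM.cj g
  have hP1 := hP.cj_mem g
  have hPG1 : IsSyl (cj g P) ⊤ := hPG.cj_self (mem_top g)
  have hz1 : Z1 (cj g P) = Z1 (O2 (cj g M)) := by rw [← cj_Z1, hz, O2_cj, cj_Z1]
  have hw3 : w ∈ Z1 (O2 (cj g M)) := by rwa [O2_cj, ← cj_Z1]
  have hYM : Y ≤ M := a2 h hM hP hPG hz hw hw1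
  have hYM1 : Y ≤ cj g M := a2 h hM1 hP1 hPG1 hz1 hw3 hw1
  have hQY : ∀ Q, IsSyl Q M → Q ≤ Y := by
    intro Q hQ q hq
    rw [← a1 hP hz hQ] at hw
    exact mem_centralizer_singleton_iff.2 (hw.2.1 q hq)
  have hQY1 : cj g P ≤ Y := by
    intro q hq
    rw [← hz1] at hw3
    exact mem_centralizer_singleton_iff.2 (hw3.2.1 q hq)
  have hYn := not_TC_of_syl hM hP hQY hYM
  have h1 := h.O2_eq_inf hM hYM hYn
  have h2 := h.O2_eq_inf hM1 hYM1 hYn
  have h3 : Y ⊓ O2 M = O2 M := inf_eq_right.2 ((O2_le_of_isSyl hP).trans (hQY P hP))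
  have h4 : Y ⊓ O2 (cj g M) = O2 (cj g M) := inf_eq_right.2 ((O2_le_of_isSyl hP1).trans hQY1)
  rw [h3] at h1
  rw [h4] at h2
  rw [← hM.norm_O2, ← cj_eq_iff, ← O2_cj, ← h2, h1]

include h hM hP hPG hz in
/-- **Case I.** `V` is strongly closed if all Sylow 2-subgroups of members of `𝓜` are Sylow in `G`. -/
theorem caseI (hall : ∀ M : Subgroup G, InM M → ∀ P, IsSyl P M → IsSyl P ⊤) {v g : G} (hv : v ∈ Z1 (O2 M))
    (hg : g * v * g⁻¹ ∈ P) : g * v * g⁻¹ ∈ Z1 (O2 M) := by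
  by_contra hcon
  set V := Z1 (O2 M) with hV
  set M1 := cj g M with hM1d
  set T := cj g V with hTd
  have hM1 := hM.cj g
  have hP1 := hP.cj_mem g
  have hPG1 : IsSyl (cj g P) ⊤ := hPG.cj_self (mem_top g)
  have hz1 : Z1 (cj g P) = Z1 (O2 M1) := by rw [← cj_Z1, hz, O2_cj, cj_Z1]
  have hT : T = Z1 (O2 M1) := by rw [hTd, hV, cj_Z1, ← O2_cj]
  have hgM : g ∉ M := by
    intro h1
    exact hcon (Hyp.V_conj h1 hv)
  have hv1 : v ≠ 1 := by
    rintro rfl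
    apply hcon
    simp
  have ht1 : g * v * g⁻¹ ≠ 1 := by
    intro h1
    apply hv1
    have h2 : v = g⁻¹ * (g * v * g⁻¹) * g := by group
    rw [h2, h1]
    simp
  have htT : g * v * g⁻¹ ∈ T := conj_mem_cj hv
  have hVM1 : V ≤ M1 := by
    intro w hw
    apply a2 h hM1 hP1 hPG1 hz1 (v := g * v * g⁻¹) (by rw [← hT]; exact htT) ht1
    rw [← hz] at hw
    exact mem_centralizer_singleton_iff.2 (hw.2.1 _ hg).symm
  have hVD : V ⊓ O2 M1 = ⊥ := by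
    rw [eq_bot_iff]
    rintro w ⟨hw, hw2⟩
    rw [mem_bot]
    by_contra hw1
    apply hgM
    apply a3 h hM hP hPG hz hw hw1
    rw [← hV, ← hTd, hT]
    exact h.mem_V hM1 hw2 hw.2.2
  obtain ⟨R, hR, hVR⟩ := exists_isSyl hVM1 ((O2_pg M).to_le (Z1_le _))
  have hZR : Z1 R = T := by rw [hT]; exact a1 hP1 hz1 hR
  have hVT : ∀ v ∈ V, ∀ t ∈ T, v * t = t * v := by
    intro w hw t ht
    rw [← hZR] at ht
    exact ht.2.1 w (hVR hw)
  have hTD : T ⊓ O2 M = ⊥ := by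
    rw [eq_bot_iff]
    rintro w ⟨hw, hw2⟩
    rw [mem_bot]
    by_contra hw1
    apply hgM
    have hwT := hw
    rw [hT] at hw
    exact a3 h hM hP hPG hz (h.mem_V hM hw2 hw.2.2) hw1 hwT
  have hcV : ∀ v ∈ V, v ≠ 1 → centralizer ({v} : Set G) ≤ M := fun w hw hw1 => a2 h hM hP hPG hz hw hw1
  have hcT : ∀ t ∈ T, t ≠ 1 → centralizer ({t} : Set G) ≤ M1 := fun w hw hw1 =>
    a2 h hM1 hP1 hPG1 hz1 (by rw [← hT]; exact hw) hw1
  have hVb : V ≠ ⊥ := hM.V_ne_bot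
  have hTb : T ≠ ⊥ := by rw [hT]; exact hM1.V_ne_bot
  obtain ⟨y, hy, hyT, hy1⟩ := half h hM hM1 hV hT hVb hVT hTD hVD hcV hcT
    (fun R hR => by rw [hT]; exact a1 hP1 hz1 hR)
  obtain ⟨y', hy', hyV, hy1'⟩ := half h hM1 hM hT hV hTb (fun t ht v hv => (hVT v hv t ht).symm) hVD hTD hcT hcV
    (fun R hR => a1 hP hz hR)
  -- the subgroup `E = V T`
  have hVnT : V ≤ normalizer (T : Set G) := by
    intro w hw
    apply mem_normalizer_of_forall
    intro t ht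
    rw [hVT w hw t ht]
    simpa using ht
  set E := V ⊔ T with hE
  have hEm : ∀ e ∈ E, ∃ v ∈ V, ∃ t ∈ T, e = v * t := fun e he => mem_sup_of_norm hVnT he
  have hVe : ∀ v ∈ V, v * v = 1 := fun v hv => hv.2.2
  have hTe : ∀ t ∈ T, t * t = 1 := by intro t ht; rw [hT] at ht; exact ht.2.2
  have hVc : ∀ a ∈ V, ∀ b ∈ V, a * b = b * a := fun a ha b hb => Hyp.V_comm ha hb
  have hTc : ∀ a ∈ T, ∀ b ∈ T, a * b = b * a := by
    intro a ha b hb; rw [hT] at ha hb; exact Hyp.V_comm ha hb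
  have hEc : ∀ a ∈ E, ∀ b ∈ E, a * b = b * a := by
    intro a ha b hb
    obtain ⟨v1, hv1, t1, ht1, rfl⟩ := hEm a ha
    obtain ⟨v2, hv2, t2, ht2, rfl⟩ := hEm b hb
    calc v1 * t1 * (v2 * t2) = v1 * (t1 * v2) * t2 := by group
      _ = v1 * (v2 * t1) * t2 := by rw [hVT v2 hv2 t1 ht1]
      _ = (v1 * v2) * (t1 * t2) := by group
      _ = (v2 * v1) * (t2 * t1) := by rw [hVc v1 hv1 v2 hv2, hTc t1 ht1 t2 ht2]
      _ = v2 * (v1 * t2) * t1 := by group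
      _ = v2 * (t2 * v1) * t1 := by rw [hVT v1 hv1 t2 ht2]
      _ = v2 * t2 * (v1 * t1) := by group
  have hEsq : ∀ a ∈ E, a * a = 1 := by
    intro a ha
    obtain ⟨v1, hv1, t1, ht1, rfl⟩ := hEm a ha
    calc v1 * t1 * (v1 * t1) = v1 * (t1 * v1) * t1 := by group
      _ = v1 * (v1 * t1) * t1 := by rw [hVT v1 hv1 t1 ht1]
      _ = (v1 * v1) * (t1 * t1) := by group
      _ = 1 := by rw [hVe v1 hv1, hTe t1 ht1, one_mul]
  have hEpg : IsPGroup 2 E := pg_of_TE fun x hx => TE.of_sq (hEsq x hx)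
  have hVE : V ≤ E := le_sup_left
  have hTE : T ≤ E := le_sup_right
  have hyV' : ∀ w ∈ V, y * w * y⁻¹ = w := by
    intro w hw
    rw [hw.2.1 y hy]
    group
  have hyT' : ∀ t ∈ T, y' * t * y'⁻¹ = t := by
    intro t ht
    rw [hT] at ht
    rw [ht.2.1 y' hy']
    group
  have hyn : y ∈ normalizer (E : Set G) := by
    apply mem_normalizer_of_forall
    intro e he
    obtain ⟨w, hw, t, ht, rfl⟩ := hEm e he
    have h1 : y * (w * t) * y⁻¹ = (y * w * y⁻¹) * ((y * t * y⁻¹ * t⁻¹) * t) := by group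
    rw [h1, hyV' w hw]
    exact mul_mem (hVE hw) (mul_mem (hVE (hyT t ht)) (hTE ht))
  have hyn' : y' ∈ normalizer (E : Set G) := by
    apply mem_normalizer_of_forall
    intro e he
    obtain ⟨w, hw, t, ht, rfl⟩ := hEm e he
    have h1 : y' * (w * t) * y'⁻¹ = ((y' * w * y'⁻¹ * w⁻¹) * w) * (y' * t * y'⁻¹) := by group
    rw [h1, hyT' t ht]
    exact mul_mem (mul_mem (hTE (hyV w hw)) (hVE hw)) (hTE ht)
  set N := normalizer (E : Set G) with hN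
  have hEO : E ≤ O2 N := le_O2 le_normalizer hEpg le_rfl
  have hEb : E ≠ ⊥ := fun h1 => hVb (eq_bot_iff.2 (h1 ▸ hVE))
  have hNn : ¬ TC N := by
    intro hTC
    have e1 : y ∈ O2 N := hTC y hyn (TE.of_pg (O2_pg M) hy)
    have e2 : y' ∈ O2 N := hTC y' hyn' (TE.of_pg (O2_pg M1) hy')
    obtain ⟨e, he, he1, hfix⟩ := exists_fixed (O2_pg N) hEpg hEb (O2_le N)
    obtain ⟨w, hw, t, ht, rfl⟩ := hEm e he
    have h1 := hfix y e1
    have h2 := hfix y' e2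
    have h3 : y * (w * t) * y⁻¹ = (y * w * y⁻¹) * ((y * t * y⁻¹ * t⁻¹) * t) := by group
    rw [hyV' w hw, h1] at h3
    have h4 : y * t * y⁻¹ * t⁻¹ = 1 := by
      have h5 := mul_left_cancel h3
      exact (mul_eq_right.1 h5.symm)
    have h5 : t = 1 := hy1 t ht h4
    have h6 : y' * (w * t) * y'⁻¹ = ((y' * w * y'⁻¹ * w⁻¹) * w) * (y' * t * y'⁻¹) := by group
    rw [hyT' t ht, h2] at h6
    have h7 : y' * w * y'⁻¹ * w⁻¹ = 1 := by
      have h8 := mul_right_cancel h6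
      exact (mul_eq_right.1 h8.symm)
    have h8 : w = 1 := hy1' w hw h7
    apply he1
    rw [h5, h8, mul_one]
  obtain ⟨M'', hM'', hNM⟩ := Hyp.exists_InM hNn (fun h1 => hEb (eq_bot_iff.2 (h1 ▸ hEO)))
  have hEV : E ≤ Z1 (O2 M'') := by
    intro e he
    apply h.mem_V hM'' _ (hEsq e he)
    have h1 := h.O2_eq_inf hM'' hNM hNn
    have h2 := hEO he
    rw [h1] at h2
    exact h2.2
  obtain ⟨Q, hQ, hvQ⟩ := h.exists_Z1 hM'' (hEV (hVE hv))
  have hQG := hall M'' hM'' Q hQ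
  have hQM : Q ≤ M := by
    refine le_trans ?_ (hcV v hv hv1)
    intro q hq
    exact mem_centralizer_singleton_iff.2 (hvQ.2.1 q hq)
  have hQM' : IsSyl Q M := hQG.of_le hQM le_top
  have hDQ := O2_le_of_isSyl hQM'
  -- `t ∈ O₂(M)`
  have htM : g * v * g⁻¹ ∈ M := hcV v hv hv1 (mem_centralizer_singleton_iff.2 (hVT v hv _ htT).symm)
  have h1 : g * v * g⁻¹ ∈ O2 M := by
    apply h.mem_O2_of_trivial hM (Z1_le _) (fun w hw => hw.2.2) InM.le_norm_V htM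
      (fun w hw => (hVT w hw _ htT).symm)
    intro d hd
    have hdM'' := hQ.le (hDQ hd)
    have h2 : d⁻¹ * (g * v * g⁻¹ * d * (g * v * g⁻¹)⁻¹) ∈ Z1 (O2 M'') := by
      have h3 : d⁻¹ * (g * v * g⁻¹ * d * (g * v * g⁻¹)⁻¹) = (d⁻¹ * (g * v * g⁻¹) * d) * (g * v * g⁻¹)⁻¹ := by group
      rw [h3]
      exact mul_mem (inv_conj_mem_of_mem_normalizer (InM.le_norm_V hdM'') (hEV (hTE htT)))
        (inv_mem (hEV (hTE htT)))
    apply h.mem_V hM _ h2.2.2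
    exact mul_mem (inv_mem hd) (O2_conj htM hd)
  have h2 : g * v * g⁻¹ ∈ T ⊓ O2 M := ⟨htT, h1⟩
  rw [hTD, mem_bot] at h2
  exact ht1 h2

end

end Cfsg.Agent.H317
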