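import Cfsg.Agent.H317.Fusion

/-!
# The configuration `P = V V₂ < S` (helper317)
-/

set_option autoImplicit false

namespace Cfsg.Agent.H317

open Subgroup

variable {G : Type*} [Group G]

/-- `P = V V₂` is a common Sylow 2-subgroup of `N(V), N(V₂) ∈ 𝓜`, and is not Sylow in `G`. -/
structure Conf (S P V V2 Z : Subgroup G) : Prop where
  hS : IsSyl S ⊤
  inM : InM (normalizer (V : Set G))
  inM2 : InM (normalizer (V2 : Set G))
  oV : O2 (normalizer (V : Set G)) = V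
  oV2 : O2 (normalizer (V2 : Set G)) = V2
  zV : Z1 V = V
  zV2 : Z1 V2 = V2
  syl : IsSyl P (normalizer (V : Set G))
  syl2 : IsSyl P (normalizer (V2 : Set G))
  P_eq : P = V ⊔ V2
  Z_eq : V ⊓ V2 = Z
  Z1P : Z1 P = Z
  card_eq : Nat.card V = Nat.card V2
  PS : P ≤ S
  PneS : P ≠ S

/-- elementary abelian 2-subgroups -/
structure EA (E : Subgroup G) : Prop where
  comm : ∀ a ∈ E, ∀ b ∈ E, a * b = b * a
  sq : ∀ a ∈ E, a * a = 1

theorem EA.pg {E : Subgroup G} (h : EA E) : IsPGroup 2 E := by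
  intro x
  refine ⟨1, Subtype.ext ?_⟩
  simp only [pow_one, pow_two]
  exact h.sq x x.2

theorem EA.mono {E F : Subgroup G} (h : EA E) (hF : F ≤ E) : EA F :=
  ⟨fun a ha b hb => h.comm a (hF ha) b (hF hb), fun a ha => h.sq a (hF ha)⟩

theorem EA.cj {E : Subgroup G} (h : EA E) (g : G) : EA (cj g E) := by
  constructor
  · intro a ha b hb
    rw [mem_cj] at ha hb
    have h1 := h.comm _ ha _ hb
    have h2 : a * b = g * (g⁻¹ * a * g * (g⁻¹ * b * g)) * g⁻¹ := by group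
    rw [h2, h1]
    group
  · intro a ha
    rw [mem_cj] at ha
    have h1 := h.sq _ ha
    have h2 : a * a = g * (g⁻¹ * a * g * (g⁻¹ * a * g)) * g⁻¹ := by group
    rw [h2, h1]
    simp

theorem EA.Z1 (D : Subgroup G) : EA (Z1 D) := ⟨fun _ ha b hb => V_comm' ha hb, fun _ ha => ha.2.2⟩
where
  V_comm' {a b : G} (ha : a ∈ Cfsg.Agent.H317.Z1 D) (hb : b ∈ Cfsg.Agent.H317.Z1 D) : a * b = b * a := hb.2.1 a ha.1

variable [Finite G]

/-- the configuration exists if a Sylow 2-subgroup of a member of `𝓜` is not Sylow -/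
theorem Hyp.exists_conf (h : Hyp G) {S M P : Subgroup G} (hS : IsSyl S ⊤) (hM : InM M) (hP : IsSyl P M)
    (hPS : P ≤ S) (hne : P ≠ S) : M = normalizer (O2 M : Set G) ∧ ∃ V2 Z, Conf S P (O2 M) V2 Z := by
  obtain ⟨x, hxS, hxP, hxn⟩ := exists_norm hPS hne hS.pg
  have hxM : x ∉ M := by
    intro hxM
    exact hxP (hP.mem_of_normalizer hxM (TE.of_pg hS.pg hxS) hxn)
  have hz : Cfsg.Agent.H317.Z1 P ≠ Cfsg.Agent.H317.Z1 (O2 M) := by
    intro h1
    apply hxM
    rw [← hM.norm_V, ← h1]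
    exact Z1_normalizer P hxn
  have hM2 := hM.cj x
  have hP2 : IsSyl P (cj x M) := by
    have := hP.cj_mem x
    rwa [cj_eq_iff.2 hxn] at this
  have hMne : M ≠ cj x M := by
    intro h1
    apply hxM
    rw [← hM.norm_O2, ← cj_eq_iff, ← O2_cj, ← h1]
  have hz2 : Cfsg.Agent.H317.Z1 P ≠ Cfsg.Agent.H317.Z1 (O2 (cj x M)) := by
    intro h1
    apply hz
    apply Subgroup.eq_of_le_of_card_ge (h.Z1_le_V hM hP)
    rw [h1, O2_cj, ← cj_Z1, card_cj]
  obtain ⟨h1, h2, h3, h4, h5⟩ := h.pair hM hM2 hMne hP hP2 hz hz2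
  have e1 := hM.norm_O2
  have e2 := hM2.norm_O2
  refine ⟨e1.symm, O2 (cj x M), O2 M ⊓ O2 (cj x M), ?_⟩
  exact
    { hS := hS
      inM := by rw [e1]; exact hM
      inM2 := by rw [e2]; exact hM2
      oV := by rw [e1]
      oV2 := by rw [e2]
      zV := h1.symm
      zV2 := h2.symm
      syl := by rw [e1]; exact hP
      syl2 := by rw [e2]; exact hP2
      P_eq := h3
      Z_eq := rfl
      Z1P := h4.symm
      card_eq := h5
      PS := hPS
      PneS := hne }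

namespace Conf

variable {S P V V2 Z : Subgroup G} (c : Conf S P V V2 Z)

include c

omit [Finite G] in
theorem symm : Conf S P V2 V Z where
  hS := c.hS
  inM := c.inM2
  inM2 := c.inM
  oV := c.oV2
  oV2 := c.oV
  zV := c.zV2
  zV2 := c.zV
  syl := c.syl2
  syl2 := c.syl
  P_eq := by rw [c.P_eq, sup_comm]
  Z_eq := by rw [← c.Z_eq, inf_comm]
  Z1P := c.Z1P
  card_eq := c.card_eq.symm
  PS := c.PS
  PneS := c.PneS

omit [Finite G] in
theorem eaV : EA V := by rw [← c.zV]; exact EA.Z1 V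

omit [Finite G] in
theorem VP : V ≤ P := by rw [c.P_eq]; exact le_sup_left

omit [Finite G] in
theorem V2P : V2 ≤ P := by rw [c.P_eq]; exact le_sup_right

omit [Finite G] in
theorem ZV : Z ≤ V := by rw [← c.Z_eq]; exact inf_le_left

omit [Finite G] in
theorem ZV2 : Z ≤ V2 := by rw [← c.Z_eq]; exact inf_le_right

omit [Finite G] in
theorem Z_comm {z p : G} (hz : z ∈ Z) (hp : p ∈ P) : p * z = z * p := by
  rw [← c.Z1P] at hz
  exact hz.2.1 p hp

omit [Finite G] in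
theorem mem_Z {z : G} (h1 : z ∈ V) (h2 : z ∈ V2) : z ∈ Z := by rw [← c.Z_eq]; exact ⟨h1, h2⟩

variable (h : Hyp G)

/-- (f1) -/
theorem mem_Z_of_comm (h : Hyp G) {a v : G} (ha : a ∈ P) (haV : a ∉ V) (hv : v ∈ V) (hc : a * v = v * a) :
    v ∈ Z := by
  rw [← c.Z1P]
  apply h.mem_Z1_of_comm c.inM c.syl ha (by rw [c.oV]; exact haV) _ hc
  rw [c.oV, c.zV]
  exact hv

theorem V_ne (h : Hyp G) : V ≠ V2 := by
  intro h1
  have h2 : P = V := by rw [c.P_eq, ← h1, sup_idem]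
  apply c.inM.ntc
  apply TC_of_le c.syl
  rw [c.oV, h2]

theorem exists_V2 (h : Hyp G) : ∃ w ∈ V2, w ∉ V := by
  by_contra hcon
  push Not at hcon
  exact c.V_ne h (Subgroup.eq_of_le_of_card_ge hcon c.card_eq.le).symm

theorem exists_V (h : Hyp G) : ∃ v ∈ V, v ∉ V2 := c.symm.exists_V2 h

/-- (f3) -/
theorem exists_mul {p : G} (hp : p ∈ P) : ∃ v ∈ V, ∃ w ∈ V2, p = v * w := by
  rw [c.P_eq] at hp
  apply mem_sup_of_norm _ hp
  exact c.VP.trans c.syl2.le

/-- (f4) -/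
theorem mem_or (h : Hyp G) {p : G} (hp : p ∈ P) (h2 : p * p = 1) : p ∈ V ∨ p ∈ V2 := by
  obtain ⟨v, hv, w, hw, rfl⟩ := c.exists_mul hp
  by_cases hwV : w ∈ V
  · exact Or.inl (mul_mem hv hwV)
  · right
    apply mul_mem _ hw
    apply c.ZV2
    apply c.mem_Z_of_comm h (c.V2P hw) hwV hv
    have hv2 := c.eaV.sq v hv
    have hw2 := c.symm.eaV.sq w hw
    have hv3 : v⁻¹ = v := inv_eq_of_mul_eq_one_left hv2
    have hw3 : w⁻¹ = w := inv_eq_of_mul_eq_one_left hw2
    have h3 : v * w = (v * w)⁻¹ := (inv_eq_of_mul_eq_one_left h2).symm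
    rw [h3, mul_inv_rev, hv3, hw3]

/-- (f5) -/
theorem ea_le (h : Hyp G) {E : Subgroup G} (hE : EA E) (hEP : E ≤ P) : E ≤ V ∨ E ≤ V2 := by
  by_contra hcon
  rw [not_or, SetLike.not_le_iff_exists, SetLike.not_le_iff_exists] at hcon
  obtain ⟨⟨a, ha, haV⟩, ⟨b, hb, hbV2⟩⟩ := hcon
  have h1 := (c.mem_or h (hEP ha) (hE.sq a ha)).resolve_left haV
  have h2 := (c.mem_or h (hEP hb) (hE.sq b hb)).resolve_right hbV2
  exact hbV2 (c.ZV2 (c.mem_Z_of_comm h (hEP ha) haV h2 (hE.comm a ha b hb)))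

/-- (f6) -/
theorem cj_V (h : Hyp G) {t : G} (ht : t ∈ normalizer (P : Set G)) : cj t V = V ∨ cj t V = V2 := by
  have h1 : cj t V ≤ P := by
    rw [← cj_eq_iff.2 ht]
    exact cj_mono c.VP
  rcases c.ea_le h (c.eaV.cj t) h1 with h2 | h2
  · exact Or.inl (Subgroup.eq_of_le_of_card_ge h2 (card_cj t V).ge)
  · exact Or.inr (Subgroup.eq_of_le_of_card_ge h2 (by rw [card_cj, c.card_eq]))

theorem swap (h : Hyp G) {t : G} (ht : t ∈ normalizer (P : Set G)) (htS : t ∈ S) (htP : t ∉ P) :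
    cj t V = V2 := by
  rcases c.cj_V h ht with h1 | h1
  · exfalso
    exact htP (c.syl.mem_of_normalizer (cj_eq_iff.1 h1) (TE.of_pg c.hS.pg htS) ht)
  · exact h1

/-- (f7) -/
theorem mul_mem_P (h : Hyp G) {s t : G} (hs : s ∈ normalizer (P : Set G)) (hsS : s ∈ S) (hsP : s ∉ P)
    (ht : t ∈ normalizer (P : Set G)) (htS : t ∈ S) (htP : t ∉ P) : s * t ∈ P := by
  by_contra hcon
  have h1 := c.swap h (mul_mem hs ht) (mul_mem hsS htS) hcon
  rw [← cj_cj, c.swap h ht htS htP, c.symm.swap h hs hsS hsP] at h1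
  exact c.V_ne h h1

/-- the centralizer in `Z` -/
theorem inf_le_CZ (h : Hyp G) {E : Subgroup G} (hE : EA E) {e : G} (he : e ∈ E) (heP : e ∉ P)
    (hen : e ∈ normalizer (P : Set G)) (heS : e ∈ S) : E ⊓ P ≤ Z ⊓ centralizer {e} := by
  have hcomm : ∀ y ∈ E, e * y * e⁻¹ = y := by
    intro y hy
    rw [hE.comm e he y hy]
    group
  have key : ∀ {V V2 : Subgroup G}, Conf S P V V2 Z → E ⊓ P ≤ V → E ⊓ P ≤ Z := by
    intro V V2 c h1 y hy
    apply c.mem_Z (h1 hy)
    rw [← c.swap h hen heS heP, ← hcomm y hy.1]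
    exact conj_mem_cj (h1 hy)
  intro y hy
  refine ⟨?_, mem_centralizer_singleton_iff.2 (hE.comm y hy.1 e he)⟩
  rcases c.ea_le h (hE.mono inf_le_left) (inf_le_right : E ⊓ P ≤ P) with h1 | h1
  · exact key c h1 hy
  · exact key c.symm h1 hy

theorem card_ea_le (h : Hyp G) {E : Subgroup G} (hE : EA E) {e : G} (he : e ∈ E) (heP : e ∉ P)
    (hEn : E ≤ normalizer (P : Set G)) (hES : E ≤ S) :
    Nat.card E = 2 * Nat.card (E ⊓ P : Subgroup G) := by
  have h1 := card_inf_relIndex E P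
  have h2 : P.relIndex E = 2 := by
    rw [relIndex_eq_two_iff]
    refine ⟨e, he, fun b hb => ?_⟩
    by_cases hbP : b ∈ P
    · right
      refine ⟨hbP, fun h3 => heP ?_⟩
      exact (P.mul_mem_cancel_left hbP).1 h3
    · left
      exact ⟨c.mul_mem_P h (hEn hb) (hES hb) hbP (hEn he) (hES he) heP, hbP⟩
  rw [← h1, h2, mul_comm]

/-- the condition (★) -/
def Star (S P V Z : Subgroup G) : Prop :=
  ∀ e ∈ S, e ∈ normalizer (P : Set G) → e ∉ P → 2 * Nat.card (Z ⊓ centralizer {e} : Subgroup G) < Nat.card V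

omit [Finite G] in
theorem star_symm (hs : Star S P V Z) : Star S P V2 Z := by
  intro e h1 h2 h3
  rw [← c.card_eq]
  exact hs e h1 h2 h3

theorem card_ea_lt (h : Hyp G) (hs : Star S P V Z) {E : Subgroup G} (hE : EA E) (hEP : ¬ E ≤ P)
    (hEn : E ≤ normalizer (P : Set G)) (hES : E ≤ S) : Nat.card E < Nat.card V := by
  obtain ⟨e, he, heP⟩ := SetLike.not_le_iff_exists.1 hEP
  rw [c.card_ea_le h hE he heP hEn hES]
  refine lt_of_le_of_lt ?_ (hs e (hES he) (hEn he) heP)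
  exact Nat.mul_le_mul_left _ (Subgroup.card_le_of_le (c.inf_le_CZ h hE he heP (hEn he) (hES he)))

theorem ea_eq (h : Hyp G) (hs : Star S P V Z) {E : Subgroup G} (hE : EA E)
    (hEn : E ≤ normalizer (P : Set G)) (hES : E ≤ S) (hc : Nat.card V ≤ Nat.card E) : E = V ∨ E = V2 := by
  have hEP : E ≤ P := by
    by_contra hcon
    exact absurd (c.card_ea_lt h hs hE hcon hEn hES) (not_lt.2 hc)
  rcases c.ea_le h hE hEP with h1 | h1
  · exact Or.inl (Subgroup.eq_of_le_of_card_ge h1 hc)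
  · exact Or.inr (Subgroup.eq_of_le_of_card_ge h1 (by rw [← c.card_eq]; exact hc))

theorem norm_of_norm (h : Hyp G) (hs : Star S P V Z) {T : Subgroup G} (hT : T = S ⊓ normalizer (P : Set G))
    {y : G} (hy : y ∈ normalizer (T : Set G)) : y ∈ normalizer (P : Set G) := by
  have hPT : P ≤ T := by rw [hT]; exact le_inf c.PS le_normalizer
  have key : ∀ {E : Subgroup G}, EA E → E ≤ P → Nat.card V ≤ Nat.card E → cj y E = V ∨ cj y E = V2 := by
    intro E hE hEP hc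
    have h1 : cj y E ≤ T := by
      rw [← cj_eq_iff.2 hy]
      exact cj_mono (hEP.trans hPT)
    rw [hT] at h1
    exact c.ea_eq h hs (hE.cj y) (h1.trans inf_le_right) (h1.trans inf_le_left) (by rw [card_cj]; exact hc)
  apply mem_normalizer_of_le
  have h1 := key c.eaV c.VP le_rfl
  have h2 := key c.symm.eaV c.V2P c.card_eq.le
  have h3 : cj y P = cj y V ⊔ cj y V2 := by rw [← cj_sup, ← c.P_eq]
  rw [h3]
  refine sup_le ?_ ?_
  · rcases h1 with h1 | h1 <;> rw [h1]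
    · exact c.VP
    · exact c.V2P
  · rcases h2 with h2 | h2 <;> rw [h2]
    · exact c.VP
    · exact c.V2P

/-- (f10) -/
theorem S_le (h : Hyp G) (hs : Star S P V Z) : S ≤ normalizer (P : Set G) := by
  by_contra hcon
  have h1 : S ⊓ normalizer (P : Set G) ≠ S := fun h2 => hcon (inf_eq_left.1 h2)
  obtain ⟨y, hyS, hyT, hy⟩ := exists_norm inf_le_left h1 c.hS.pg
  exact hyT ⟨hyS, c.norm_of_norm h hs rfl hy⟩

/-- (f11) -/
theorem norm_S (h : Hyp G) (hs : Star S P V Z) : normalizer (S : Set G) ≤ normalizer (P : Set G) := by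
  intro y hy
  apply c.norm_of_norm h hs (T := S) _ hy
  exact (inf_eq_left.2 (c.S_le h hs)).symm

theorem exists_swap (h : Hyp G) (hs : Star S P V Z) : ∃ e ∈ S, e ∉ P := by
  by_contra hcon
  push Not at hcon
  exact c.PneS (le_antisymm c.PS hcon)

end Conf

end Cfsg.Agent.H317
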