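import Cfsg.Agent.H317.TameC

/-!
# End of the configuration (helper317)

* `exists_class2`: under (★) the subgroup `P` is strongly closed of class two.
* `card_of_not_star`: otherwise `V` is a self-centralizing four-group.
-/

set_option autoImplicit false

namespace Cfsg.Agent.H317

open Subgroup

theorem two_mul_card_le {G : Type*} [Group G] [Finite G] {A B : Subgroup G} (hAB : A ≤ B) (hne : A ≠ B) :
    2 * Nat.card A ≤ Nat.card B := by
  obtain ⟨k, hk⟩ := Subgroup.card_dvd_of_le hAB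
  have h1 := card_pos' B
  have h2 := card_pos' A
  rcases k with _ | _ | k
  · omega
  · exfalso
    apply hne
    exact Subgroup.eq_of_le_of_card_ge hAB (by rw [hk, zero_add, mul_one])
  · rw [hk]
    nlinarith

theorem inv_mul_mem_of_two {G : Type*} [Group G] [Finite G] {A B : Subgroup G} (hAB : A ≤ B)
    (h2 : Nat.card B = 2 * Nat.card A) {x y : G} (hx : x ∈ B) (hy : y ∈ B) (hxA : x ∉ A) (hyA : y ∉ A) :
    x⁻¹ * y ∈ A := by
  have h1 := card_inf_relIndex B A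
  rw [inf_eq_right.2 hAB, h2] at h1
  have hpos := card_pos' A
  have h3 : A.relIndex B = 2 := by
    apply Nat.eq_of_mul_eq_mul_left hpos
    rw [h1, mul_comm]
  have h4 : (A.subgroupOf B).index = 2 := h3
  have h5 := Subgroup.mul_mem_iff_of_index_two h4 (a := (⟨x, hx⟩ : B)⁻¹) (b := ⟨y, hy⟩)
  have h6 : ((⟨x, hx⟩ : B)⁻¹ * ⟨y, hy⟩ ∈ A.subgroupOf B) ↔ x⁻¹ * y ∈ A := Iff.rfl
  rw [← h6, h5]
  constructor
  · intro h7
    exact absurd (by simpa using inv_mem h7) (show ¬ ((⟨x, hx⟩ : B) ∈ A.subgroupOf B) from hxA)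
  · intro h7
    exact absurd h7 hyA

variable {G : Type*} [Group G] [Finite G]

namespace Conf

variable {S P V V2 Z : Subgroup G} (c : Conf S P V V2 Z)

include c

/-- all tame members of `𝓜` have their 2-core inside `P` -/
theorem tame_le (h : Hyp G) (hs : Star S P V Z) {M : Subgroup G} (hM : InM M) (hSM : IsSyl (S ⊓ M) M) :
    O2 M ≤ P := by
  by_cases hne : S ⊓ M = S
  · exfalso
    rw [hne] at hSM
    by_cases h1 : Z1 S = Z1 (O2 M)
    · exact c.tame_c h hs hM hSM h1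
    · exact c.tame_b h hs hM hSM h1
  · exact c.tame_a h hs hM hSM hne

theorem P_not_comm (h : Hyp G) : ¬ IsMulCommutative P := by
  intro hc
  apply c.V_ne h
  symm
  apply Subgroup.eq_of_le_of_card_ge _ c.card_eq.le
  intro w hw
  rw [← c.oV]
  apply h.cent _ c.inM
  rw [c.oV, mem_centralizer_iff]
  intro v hv
  have h1 := hc.is_comm.comm (⟨v, c.VP hv⟩ : P) ⟨w, c.V2P hw⟩
  exact congrArg Subtype.val h1

theorem card_ge (h : Hyp G) : 16 ≤ Nat.card S := by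
  have h1 : Z ≠ ⊥ := by
    rw [← c.Z1P]
    apply Z1_ne_bot c.syl.pg
    intro h2
    apply c.V_ne h
    have h3 : V ≤ ⊥ := h2 ▸ c.VP
    have h4 : V2 ≤ ⊥ := h2 ▸ c.V2P
    rw [eq_bot_iff.2 h3, eq_bot_iff.2 h4]
  have h2 := two_mul_card_le (bot_le : ⊥ ≤ Z) (Ne.symm h1)
  have h3 := two_mul_card_le c.ZV (by
    intro h3
    apply c.V_ne h
    exact Subgroup.eq_of_le_of_card_ge (h3 ▸ c.ZV2) c.card_eq.ge)
  have h4 := two_mul_card_le c.VP (by
    intro h4
    apply c.V_ne h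
    symm
    exact Subgroup.eq_of_le_of_card_ge (h4 ▸ c.V2P) c.card_eq.le)
  have h5 := two_mul_card_le c.PS c.PneS
  rw [Subgroup.card_bot] at h2
  omega

/-- Under (★), `P` is a strongly closed subgroup of class two. -/
theorem exists_class2 (h : Hyp G) (hs : Star S P V Z) : ∃ (T : Sylow 2 G) (A : Subgroup G),
    Cfsg.IsStronglyClosed A (T : Subgroup G) ∧ ¬ IsMulCommutative A ∧ ⁅(⊤ : Subgroup A), ⊤⁆ ≤ Subgroup.center A ∧
      16 ≤ Nat.card T := by
  obtain ⟨Q, hQ⟩ := (c.hS).exists_sylow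
  have hT : ∃ T : Sylow 2 G, (T : Subgroup G) = S := by
    refine ⟨⟨S, c.hS.pg, fun {R} hR hle => c.hS.max R hle le_top hR⟩, rfl⟩
  obtain ⟨T, hT⟩ := hT
  refine ⟨T, P, ?_, c.P_not_comm h, ?_, ?_⟩
  · apply h.stronglyClosed_of T (by rw [hT]; exact c.PS)
    · intro g hg w hw
      rw [hT] at hg
      exact conj_mem_of_mem_normalizer (c.norm_S h hs hg) hw
    · intro M hM hSM m hm w hw hwO
      rw [hT] at hSM
      exact c.tame_le h hs hM hSM (O2_conj hm hwO)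
  · rw [Subgroup.commutator_le]
    rintro ⟨x, hx⟩ - ⟨y, hy⟩ -
    rw [Subgroup.mem_center_iff]
    rintro ⟨p, hp⟩
    apply Subtype.ext
    show p * (x * y * x⁻¹ * y⁻¹) = (x * y * x⁻¹ * y⁻¹) * p
    apply c.Z_comm _ hp
    have h1 := c.PP_le (inv_mem hx) (inv_mem hy)
    simpa using h1
  · have h1 : Nat.card T = Nat.card S := by rw [← hT]
    rw [h1]
    exact c.card_ge h

/-! ### the case `|V : Z| = 2` -/

/-- the transvection element of a Sylow 2-subgroup -/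
def Tr (V R : Subgroup G) (t : G) : Prop :=
  t ∈ Z1 R ∧ ∀ a ∈ R, a ∉ V → ∀ v ∈ V, v ∉ Z1 R → a * v * a⁻¹ = v * t

omit c [Finite G] in
theorem Tr.cj {V R : Subgroup G} {t m : G} (h : Tr V R t) (hm : m ∈ normalizer (V : Set G)) :
    Tr V (cj m R) (m * t * m⁻¹) := by
  refine ⟨by rw [← cj_Z1]; exact conj_mem_cj h.1, fun a ha haV v hv hvZ => ?_⟩
  rw [← cj_Z1, mem_cj] at hvZ
  rw [mem_cj] at ha
  have h1 := h.2 _ ha (fun h2 => haV (by
    have := conj_mem_of_mem_normalizer hm h2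
    simpa [mul_assoc] using this)) _ (inv_conj_mem_of_mem_normalizer hm hv) hvZ
  have h2 : a * v * a⁻¹ = m * (m⁻¹ * a * m * (m⁻¹ * v * m) * (m⁻¹ * a * m)⁻¹) * m⁻¹ := by group
  rw [h2, h1]
  group

theorem exists_v0 (h : Hyp G) : ∃ v ∈ V, v ∉ Z := by
  obtain ⟨v, hv, hv2⟩ := c.exists_V h
  exact ⟨v, hv, fun h1 => hv2 (c.ZV2 h1)⟩

theorem exists_Tr_P (h : Hyp G) (hr : Nat.card V = 2 * Nat.card Z) : ∃ t, Tr V P t := by
  obtain ⟨w0, hw0, hw0V⟩ := c.exists_V2 h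
  obtain ⟨v0, hv0, hv0Z⟩ := c.exists_v0 h
  have hwP := c.V2P hw0
  refine ⟨v0⁻¹ * (w0 * v0 * w0⁻¹), ?_, ?_⟩
  · rw [c.Z1P]
    apply c.mem_Z
    · exact mul_mem (inv_mem hv0) (conj_mem_of_mem_normalizer (c.P_le hwP) hv0)
    · have h1 : v0⁻¹ * (w0 * v0 * w0⁻¹) = (v0⁻¹ * w0 * v0) * w0⁻¹ := by group
      rw [h1]
      exact mul_mem (inv_conj_mem_of_mem_normalizer (c.V_le hv0) hw0) (inv_mem hw0)
  · intro a ha haV v hv hvZ
    rw [c.Z1P] at hvZ
    obtain ⟨x, hx, w, hw, rfl⟩ := c.exists_mul ha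
    have hwV : w ∉ V := fun h1 => haV (mul_mem hx h1)
    have hr2 : Nat.card V2 = 2 * Nat.card Z := by rw [← c.card_eq, hr]
    have h1 : w0⁻¹ * w ∈ Z := inv_mul_mem_of_two c.ZV2 hr2 hw0 hw (fun h2 => hw0V (c.ZV h2))
      (fun h2 => hwV (c.ZV h2))
    have h2 : v0⁻¹ * v ∈ Z := inv_mul_mem_of_two c.ZV hr hv0 hv hv0Z hvZ
    have hwv : w * v * w⁻¹ ∈ V := conj_mem_of_mem_normalizer (c.P_le (c.V2P hw)) hv
    have h3 : x * w * v * (x * w)⁻¹ = w * v * w⁻¹ := by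
      have h4 := c.eaV.comm x hx _ hwv
      have h5 : x * w * v * (x * w)⁻¹ = x * (w * v * w⁻¹) * x⁻¹ := by group
      rw [h5, h4]
      group
    have h4 : w * v * w⁻¹ = w0 * v * w0⁻¹ := by
      have h5 := c.Z_comm h1 (c.VP hv)
      have h6 : w * v * w⁻¹ = w0 * (w0⁻¹ * w * v) * (w0⁻¹ * w)⁻¹ * w0⁻¹ := by group
      rw [h6, ← h5]
      group
    have h5 : w0 * v * w0⁻¹ = v * (v0⁻¹ * (w0 * v0 * w0⁻¹)) := by
      have h6 : w0 * v * w0⁻¹ = (w0 * v0 * w0⁻¹) * (w0 * (v0⁻¹ * v) * w0⁻¹) := by group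
      rw [h6, c.Z_comm h2 hwP]
      have h7 : w0 * v0 * w0⁻¹ * (v0⁻¹ * v * w0 * w0⁻¹) = (w0 * v0 * w0⁻¹) * (v0⁻¹ * v) := by group
      rw [h7, c.eaV.comm _ (conj_mem_of_mem_normalizer (c.P_le hwP) hv0) _ (c.ZV h2)]
      have h8 := c.eaV.comm v0⁻¹ (inv_mem hv0) v hv
      rw [h8]
      group
    rw [h3, h4, h5]

theorem exists_Tr (h : Hyp G) (hr : Nat.card V = 2 * Nat.card Z) {R : Subgroup G}
    (hR : IsSyl R (normalizer (V : Set G))) : ∃ t, Tr V R t := by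
  obtain ⟨t, ht⟩ := c.exists_Tr_P h hr
  obtain ⟨m, hm, rfl⟩ := c.syl.exists_cj hR
  exact ⟨_, ht.cj hm⟩

theorem Z1_syl {R : Subgroup G} (hR : IsSyl R (normalizer (V : Set G))) :
    Z1 R ≤ V ∧ Nat.card (Z1 R) = Nat.card Z := by
  obtain ⟨m, hm, rfl⟩ := c.syl.exists_cj hR
  rw [← cj_Z1, card_cj, c.Z1P]
  refine ⟨?_, rfl⟩
  have h1 := cj_mono (g := m) c.ZV
  rwa [cj_eq_iff.2 hm] at h1

theorem exists_out (h : Hyp G) {R : Subgroup G} (hR : IsSyl R (normalizer (V : Set G))) : ∃ a ∈ R, a ∉ V := by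
  by_contra hcon
  push Not at hcon
  apply c.inM.ntc
  apply TC_of_le hR
  rw [c.oV]
  exact hcon

theorem Tr_notMem (h : Hyp G) {R1 R2 : Subgroup G} (hR1 : IsSyl R1 (normalizer (V : Set G)))
    (hR2 : IsSyl R2 (normalizer (V : Set G))) (hne : Z1 R1 ≠ Z1 R2) {t : G} (ht : Tr V R1 t) : t ∉ Z1 R2 := by
  intro h1
  obtain ⟨a, ha, haV⟩ := c.exists_out h hR1
  apply hne
  symm
  apply h.Z1_eq_of_normalize c.inM hR1 hR2 ha (by rw [c.oV]; exact haV)
  apply mem_normalizer_of_forall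
  intro w hw
  by_cases hw1 : w ∈ Z1 R1
  · rw [hw1.2.1 a ha]
    simpa using hw
  · rw [ht.2 a ha haV w ((c.Z1_syl hR2).1 hw) hw1]
    exact mul_mem hw h1

theorem mem_all (h : Hyp G) (hr : Nat.card V = 2 * Nat.card Z) {m y : G} (hm : m ∈ normalizer (V : Set G))
    (hmZ : cj m Z ≠ Z) (hy : y ∈ Z) (hy2 : y ∈ cj m Z) {Q : Subgroup G}
    (hQ : IsSyl Q (normalizer (V : Set G))) : y ∈ Z1 Q := by
  by_contra hcon
  obtain ⟨t1, ht1⟩ := c.exists_Tr_P h hr
  have hR2 := c.syl.cj_self hm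
  have ht2 := ht1.cj hm
  set t2 := m * t1 * m⁻¹ with ht2d
  obtain ⟨a, ha, haV⟩ := c.exists_out h c.syl
  have haM := c.syl.le ha
  have hR3 := hR2.cj_self haM
  have ht3 := ht2.cj haM
  have hZ2 : Z1 (cj m P) = cj m Z := by rw [← cj_Z1, c.Z1P]
  have e2 : t2 ∉ Z := by
    rw [← c.Z1P]
    apply c.Tr_notMem h hR2 c.syl _ ht2
    rw [hZ2, c.Z1P]
    exact hmZ
  have e3 : a * t2 * a⁻¹ = t2 * t1 :=
    ht1.2 a ha haV t2 ((c.Z1_syl hR2).1 ht2.1) (by rw [c.Z1P]; exact e2)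
  have n1 : t1 ∉ Z1 Q := c.Tr_notMem h c.syl hQ (by
    intro h1; rw [c.Z1P] at h1; exact hcon (h1 ▸ hy)) ht1
  have n2 : t2 ∉ Z1 Q := c.Tr_notMem h hR2 hQ (by
    intro h1; rw [hZ2] at h1; exact hcon (h1 ▸ hy2)) ht2
  have n3 : a * t2 * a⁻¹ ∉ Z1 Q := c.Tr_notMem h hR3 hQ (by
    intro h1
    rw [← cj_Z1, hZ2] at h1
    apply hcon
    rw [← h1, mem_cj]
    have h2 := c.Z_comm hy ha
    have h3 : a⁻¹ * y * a = y := by
      rw [mul_assoc, ← h2]
      group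
    rw [h3]
    exact hy2) ht3
  apply n3
  rw [e3]
  have hZQ := c.Z1_syl hQ
  have h1 := inv_mul_mem_of_two hZQ.1 (by rw [hZQ.2, hr]) ((c.Z1_syl hR2).1 ht2.1)
    (by exact (c.Z1_syl c.syl).1 ht1.1) n2 n1
  have h2 : t2⁻¹ = t2 := inv_eq_of_mul_eq_one_left ht2.1.2.2
  rwa [h2] at h1

theorem V_le_of (h : Hyp G) (hr : Nat.card V = 2 * Nat.card Z) {m y : G} (hm : m ∈ normalizer (V : Set G))
    (hmZ : cj m Z ≠ Z) (hy : y ∈ Z) (hy2 : y ∈ cj m Z) :
    ¬ TC (centralizer ({y} : Set G)) ∧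
      ∀ M'' : Subgroup G, InM M'' → centralizer ({y} : Set G) ≤ M'' → V ≤ O2 M'' := by
  set Y : Subgroup G := centralizer ({y} : Set G) ⊓ normalizer (V : Set G) with hY
  have hQY : ∀ Q, IsSyl Q (normalizer (V : Set G)) → Q ≤ Y := by
    intro Q hQ
    refine le_inf ?_ hQ.le
    intro q hq
    exact mem_centralizer_singleton_iff.2 ((c.mem_all h hr hm hmZ hy hy2 hQ).2.1 q hq)
  have hPm := c.syl.cj_self hm
  have hn : ¬ TC Y := by
    intro h1
    apply hmZ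
    have h2 := h1.isSyl_eq (c.syl.of_le (hQY _ c.syl) inf_le_right)
    have h3 := h1.isSyl_eq (hPm.of_le (hQY _ hPm) inf_le_right)
    rw [← c.Z1P, cj_Z1, h3, ← h2]
  refine ⟨fun h1 => hn (h1.mono inf_le_left), fun M'' hM'' hle => ?_⟩
  have h1 := h.O2_eq_inf c.inM (inf_le_right : Y ≤ _) hn
  have h2 := h.O2_eq_inf hM'' (inf_le_left.trans hle : Y ≤ M'') hn
  have h3 : V ≤ O2 Y := by
    rw [h1, c.oV]
    exact le_inf (c.VP.trans (hQY _ c.syl)) le_rfl
  rw [h2] at h3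
  exact h3.trans inf_le_right

/-- if (★) fails then `V` is a self-centralizing four-group -/
theorem card_of_not_star (h : Hyp G) (hs : ¬ Star S P V Z) : Nat.card V = 4 := by
  unfold Star at hs
  push Not at hs
  obtain ⟨e, heS, hen, heP, hcard⟩ := hs
  have h1 : Nat.card (Z ⊓ centralizer {e} : Subgroup G) ≤ Nat.card Z := Subgroup.card_le_of_le inf_le_left
  have h2 := two_mul_card_le c.ZV (by
    intro h3
    apply c.V_ne h
    exact Subgroup.eq_of_le_of_card_ge (h3 ▸ c.ZV2) c.card_eq.ge)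
  have hr : Nat.card V = 2 * Nat.card Z := by omega
  have h3 : Z ⊓ centralizer {e} = Z := Subgroup.eq_of_le_of_card_ge inf_le_left (by omega)
  have heZ : ∀ z ∈ Z, e * z * e⁻¹ = z := by
    intro z hz
    rw [← h3] at hz
    have h4 := mem_centralizer_singleton_iff.1 hz.2
    rw [← h4]
    group
  -- a conjugate of `Z`
  obtain ⟨m, hm, hmZ⟩ : ∃ m ∈ normalizer (V : Set G), cj m Z ≠ Z := by
    by_contra hcon
    push Not at hcon
    obtain ⟨v, hv, hvZ⟩ := c.exists_v0 h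
    apply hvZ
    obtain ⟨Q, hQ, hvQ⟩ := h.exists_Z1 c.inM (x := v) (by rw [c.oV, c.zV]; exact hv)
    obtain ⟨m, hm, rfl⟩ := c.syl.exists_cj hQ
    rw [← cj_Z1, c.Z1P, hcon m hm] at hvQ
    exact hvQ
  have hZe : cj e Z = Z := c.cj_Z h hen heS heP
  have htriv : Z ⊓ cj m Z = ⊥ := by
    rw [eq_bot_iff]
    rintro y ⟨hy, hy2⟩
    rw [mem_bot]
    by_contra hy1
    obtain ⟨h4, h5⟩ := c.V_le_of h hr hm hmZ hy hy2
    have hyO : y ∈ O2 (centralizer ({y} : Set G)) := by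
      have h6 : zpowers y ≤ O2 (centralizer ({y} : Set G)) := by
        apply le_O2
        · rw [zpowers_le]
          exact mem_centralizer_singleton_iff.2 rfl
        · exact (TE.of_sq (c.Z_sq hy)).zpowers
        · intro x hx
          apply mem_normalizer_of_forall
          intro w hw
          have h7 : w * x = x * w := by
            obtain ⟨k, rfl⟩ := mem_zpowers_iff.1 hw
            have h8 : Commute y x := (mem_centralizer_singleton_iff.1 hx).symm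
            exact (h8.zpow_left k).eq
          rw [← h7]
          simpa using hw
      exact h6 (mem_zpowers y)
    obtain ⟨M'', hM'', hle⟩ := Hyp.exists_InM h4 (ne_bot_of_mem hyO hy1)
    have h6 := h5 M'' hM'' hle
    -- the same for `V2`
    have hm2 : e * m * e⁻¹ ∈ normalizer (V2 : Set G) := by
      rw [← c.swap h hen heS heP, ← cj_normalizer]
      exact conj_mem_cj hm
    have h7 : cj (e * m * e⁻¹) Z = cj e (cj m Z) := by
      rw [← cj_cj, ← cj_cj]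
      congr 2
      have h8 := congrArg (cj e⁻¹) hZe
      rw [cj_inv_cj] at h8
      exact h8.symm
    have hr2 : Nat.card V2 = 2 * Nat.card Z := by rw [← c.card_eq, hr]
    obtain ⟨-, h8⟩ := c.symm.V_le_of h hr2 hm2 (by
      rw [h7]
      intro h9
      rw [← hZe] at h9
      have h10 := cj_inj h9
      rw [hZe] at h10
      exact hmZ h10) hy (by
      rw [h7, ← heZ y hy]
      exact conj_mem_cj hy2)
    have h9 := h8 M'' hM'' hle
    apply c.V_ne h
    symm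
    apply Subgroup.eq_of_le_of_card_ge _ c.card_eq.le
    intro w hw
    rw [← c.oV]
    apply h.cent _ c.inM
    rw [c.oV, mem_centralizer_iff]
    intro v hv
    have h10 := h.mem_V hM'' (h6 hv) (c.eaV.sq v hv)
    have h11 := h.mem_V hM'' (h9 hw) (c.symm.eaV.sq w hw)
    exact Hyp.V_comm h10 h11
  have h4 := card_mul_le (H := Z) (K := cj m Z) (L := V) c.ZV (by
    have h5 := cj_mono (g := m) c.ZV
    rwa [cj_eq_iff.2 hm] at h5)
  rw [htriv, Subgroup.card_bot, card_cj, one_mul, hr] at h4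
  have hZpos := card_pos' Z
  have h5 : Nat.card Z ≤ 2 := Nat.le_of_mul_le_mul_right h4 hZpos
  have h6 : Z ≠ ⊥ := by
    rw [← c.Z1P]
    apply Z1_ne_bot c.syl.pg
    intro h2
    apply c.V_ne h
    have h3 : V ≤ ⊥ := h2 ▸ c.VP
    have h4 : V2 ≤ ⊥ := h2 ▸ c.V2P
    rw [eq_bot_iff.2 h3, eq_bot_iff.2 h4]
  have h7 := two_mul_card_le (bot_le : ⊥ ≤ Z) (Ne.symm h6)
  rw [Subgroup.card_bot] at h7
  omega

end Conf

end Cfsg.Agent.H317
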