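import Cfsg.Agent.H317.Hyp

/-!
# Offenders on `V = Ω₁(Z(O₂(M)))` (helper317)
-/

set_option autoImplicit false

namespace Cfsg.Agent.H317

open Subgroup

/-! ### counting -/

section count

variable {G : Type*} [Group G]

theorem card_inf_relIndex (H K : Subgroup G) : Nat.card (H ⊓ K : Subgroup G) * K.relIndex H = Nat.card H := by
  have h1 := relIndex_mul_relIndex ⊥ (H ⊓ K) H bot_le inf_le_left
  rw [relIndex_bot_left, relIndex_bot_left, inf_relIndex_left] at h1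
  exact h1

theorem card_mul_le [Finite G] {H K L : Subgroup G} (hH : H ≤ L) (hK : K ≤ L) :
    Nat.card H * Nat.card K ≤ Nat.card (H ⊓ K : Subgroup G) * Nat.card L := by
  have h1 := card_inf_relIndex H K
  have h2 := card_inf_relIndex L K
  rw [inf_eq_right.2 hK] at h2
  have h3 : K.relIndex H ≤ K.relIndex L := relIndex_le_of_le_right hH
    (by intro h4; rw [h4, mul_zero] at h2; exact Nat.card_pos.ne h2)
  rw [← h1, ← h2]
  calc Nat.card (H ⊓ K : Subgroup G) * K.relIndex H * Nat.card K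
      = Nat.card (H ⊓ K : Subgroup G) * (Nat.card K * K.relIndex H) := by ring
    _ ≤ Nat.card (H ⊓ K : Subgroup G) * (Nat.card K * K.relIndex L) := by gcongr

theorem card_hom_le {B Z : Type*} [Group B] [Group Z] [Finite B] [Finite Z] (f : B →* Z) (C : Subgroup Z) :
    Nat.card B * Nat.card C ≤ Nat.card (C.comap f) * Nat.card Z := by
  have h1 := Subgroup.card_mul_index (C.comap f)
  have h2 := Subgroup.card_mul_index C
  have h3 : (C.comap f).index ≤ C.index := by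
    rw [index_comap, ← relIndex_top_right]
    exact relIndex_le_of_le_right le_top (by rw [relIndex_top_right]; exact Subgroup.index_ne_zero_of_finite)
  rw [← h1, ← h2]
  calc Nat.card (C.comap f) * (C.comap f).index * Nat.card C
      = Nat.card (C.comap f) * (Nat.card C * (C.comap f).index) := by ring
    _ ≤ Nat.card (C.comap f) * (Nat.card C * C.index) := by gcongr

theorem card_pos' [Finite G] (H : Subgroup G) : 0 < Nat.card H := Nat.card_pos

end count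

variable {G : Type*} [Group G] [Finite G]

namespace Hyp

variable (h : Hyp G) {M : Subgroup G} (hM : InM M)

omit [Finite G] in
theorem V_conj {M : Subgroup G} {m v : G} (hm : m ∈ M) (hv : v ∈ Z1 (O2 M)) : m * v * m⁻¹ ∈ Z1 (O2 M) :=
  conj_mem_of_mem_normalizer (Z1_normalizer _ (O2_le_normalizer M hm)) hv

omit [Finite G] in
theorem V_comm {D : Subgroup G} {v w : G} (hv : v ∈ Z1 D) (hw : w ∈ Z1 D) : v * w = w * v :=
  hw.2.1 v hv.1

omit [Finite G] in
theorem V_inv {D : Subgroup G} {v : G} (hv : v ∈ Z1 D) : v⁻¹ = v := inv_eq_of_mul_eq_one_left hv.2.2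

include h hM in
/-- The bound on quadratic subgroups -/
theorem card_bound {P : Subgroup G} (hP : IsSyl P M) (hne : Z1 P ≠ Z1 (O2 M)) {B : Subgroup G} (hB : B ≤ P)
    (hBD : ¬ B ≤ O2 M) (hc : ∀ v ∈ Z1 (O2 M), ∀ b ∈ B, v⁻¹ * (b * v * b⁻¹) ∈ Z1 P) :
    Nat.card B * Nat.card (Z1 P) ≤ Nat.card (B ⊓ O2 M : Subgroup G) * Nat.card (Z1 (O2 M)) := by
  classical
  obtain ⟨b0, hb0, hb0D⟩ := SetLike.not_le_iff_exists.1 hBD
  have hZV : Z1 P ≤ Z1 (O2 M) := h.Z1_le_V hM hP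
  -- a suitable conjugate
  have hex : ∃ n : ℕ, ∃ m ∈ M, cj m (Z1 P) ≠ Z1 P ∧ Nat.card (B ⊔ cj m B : Subgroup G) = n := by
    by_contra hcon
    push Not at hcon
    apply hne
    apply le_antisymm hZV
    intro v hv
    obtain ⟨Q, hQ, hvQ⟩ := h.exists_Z1 hM hv
    obtain ⟨m, hm, rfl⟩ := hP.exists_cj hQ
    rw [← cj_Z1] at hvQ
    by_cases h1 : cj m (Z1 P) = Z1 P
    · rwa [h1] at hvQ
    · exact absurd rfl (hcon _ m hm h1)
  obtain ⟨m, hm, hmZ, hmc⟩ := Nat.find_spec hex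
  have hmin : ∀ m' ∈ M, cj m' (Z1 P) ≠ Z1 P →
      Nat.card (B ⊔ cj m B : Subgroup G) ≤ Nat.card (B ⊔ cj m' B : Subgroup G) := by
    intro m' hm' h1
    rw [hmc]
    exact Nat.find_min' hex ⟨m', hm', h1, rfl⟩
  set Y : Subgroup G := B ⊔ cj m B with hY
  set Z2 := cj m (Z1 P) with hZ2
  set C0 : Subgroup G := Z1 P ⊓ Z2 with hC0
  have hZ2V : Z2 ≤ Z1 (O2 M) := by
    have h1 := cj_mono (g := m) hZV
    rwa [cj_eq_iff.2 (Z1_normalizer _ (O2_le_normalizer M hm))] at h1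
  -- the claim
  have claim : ∀ b ∈ B, b ∉ O2 M → ∀ x ∈ Z2, x ∈ cj b Z2 → x ∈ C0 := by
    intro b hb hbD x hx hx2
    have hbM : b ∈ M := hP.le (hB hb)
    have h1 : cj b Z2 ≠ Z2 := by
      intro h2
      have h3 := h.Z1_eq_of_normalize hM hP (hP.cj_self hm) (hB hb) hbD
        (by rw [← cj_Z1]; exact cj_eq_iff.1 h2)
      rw [← cj_Z1] at h3
      exact hmZ h3
    have h2 : cj (m⁻¹ * b * m) (Z1 P) ≠ Z1 P := by
      intro h3
      apply h1
      have h4 := congrArg (cj m) h3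
      rw [cj_cj, ← mul_assoc, ← mul_assoc, mul_inv_cancel, one_mul, ← cj_cj] at h4
      exact h4
    have h3 := hmin _ (mul_mem (mul_mem (inv_mem hm) hbM) hm) h2
    have h4 : Nat.card (B ⊔ cj (m⁻¹ * b * m) B : Subgroup G) = Nat.card (cj m B ⊔ cj b (cj m B) : Subgroup G) := by
      rw [← card_cj m, cj_sup, cj_cj m (m⁻¹ * b * m), ← mul_assoc, ← mul_assoc, mul_inv_cancel, one_mul, ← cj_cj b m]
    rw [h4] at h3
    have h5 : (cj m B ⊔ cj b (cj m B) : Subgroup G) ≤ Y := by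
      refine sup_le le_sup_right ?_
      have h6 : cj b Y = Y := cj_eq_of_mem (Subgroup.mem_sup_left hb)
      rw [← h6]
      exact cj_mono le_sup_right
    have h6 : (cj m B ⊔ cj b (cj m B) : Subgroup G) = Y := Subgroup.eq_of_le_of_card_ge h5 h3
    have h7 : ∀ (g : G), x ∈ cj g (Z1 P) → cj g B ≤ centralizer {x} := by
      intro g hxg y hy
      rw [mem_centralizer_singleton_iff]
      rw [mem_cj] at hxg hy
      have h8 := hxg.2.1 _ (hB hy)
      have h9 : y * x = g * (g⁻¹ * y * g * (g⁻¹ * x * g)) * g⁻¹ := by group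
      rw [h9, h8]
      group
    have h8 : Y ≤ centralizer {x} := by
      rw [← h6]
      refine sup_le (h7 m hx) ?_
      rw [cj_cj]
      apply h7
      rw [← cj_cj]
      exact hx2
    have h9 : b * x = x * b := mem_centralizer_singleton_iff.1 (h8 (Subgroup.mem_sup_left hb))
    exact ⟨h.mem_Z1_of_comm hM hP (hB hb) hbD (hZ2V hx) h9, hx⟩
  -- an element of `Z2` outside `Z`
  obtain ⟨v, hv, hvZ⟩ : ∃ v ∈ Z2, v ∉ Z1 P := by
    by_contra hcon
    push Not at hcon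
    exact hmZ (Subgroup.eq_of_le_of_card_ge hcon (card_cj m (Z1 P)).ge)
  have hvV := hZ2V hv
  -- the homomorphism
  let f : B →* Z1 P :=
    { toFun := fun b => ⟨v⁻¹ * (b * v * b⁻¹), hc v hvV b b.2⟩
      map_one' := by
        apply Subtype.ext
        simp
      map_mul' := by
        intro b1 b2
        apply Subtype.ext
        have h1 := hc v hvV b2 b2.2
        have h2 := h1.2.1 (b1 : G) (hB b1.2)
        show v⁻¹ * ((b1 * b2 : G) * v * (b1 * b2 : G)⁻¹) = v⁻¹ * (b1 * v * (b1 : G)⁻¹) * (v⁻¹ * (b2 * v * (b2 : G)⁻¹))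
        have h3 : v⁻¹ * ((b1 * b2 : G) * v * (b1 * b2 : G)⁻¹) =
            v⁻¹ * (b1 * v * (b1 : G)⁻¹) * (b1 * (v⁻¹ * (b2 * v * (b2 : G)⁻¹)) * (b1 : G)⁻¹) := by group
        rw [h3, h2, mul_assoc _ (b1 : G) (b1 : G)⁻¹, mul_inv_cancel, mul_one] }
  have hf : ∀ b : B, (f b : G) = v⁻¹ * (b * v * (b : G)⁻¹) := fun b => rfl
  have hcount := card_hom_le f (C0.subgroupOf (Z1 P))
  have hcomap : Nat.card ((C0.subgroupOf (Z1 P)).comap f) ≤ Nat.card (B ⊓ O2 M : Subgroup G) := by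
    have h1 : ((C0.subgroupOf (Z1 P)).comap f).map B.subtype ≤ B ⊓ O2 M := by
      rintro _ ⟨b, hb, rfl⟩
      refine ⟨b.2, ?_⟩
      by_contra hbD
      have h2 : (f b : G) ∈ C0 := hb
      rw [hf] at h2
      have h3 : (b : G) * v * (b : G)⁻¹ ∈ Z2 := by
        have h4 : (b : G) * v * (b : G)⁻¹ = v * (v⁻¹ * (b * v * (b : G)⁻¹)) := by group
        rw [h4]
        exact mul_mem hv h2.2
      have h4 : (b : G) * v * (b : G)⁻¹ ∈ C0 := claim b b.2 hbD _ h3 (conj_mem_cj hv)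
      have h5 : v = (b : G) * v * (b : G)⁻¹ * (v⁻¹ * (b * v * (b : G)⁻¹))⁻¹ := by group
      apply hvZ
      rw [h5]
      exact mul_mem h4.1 (inv_mem h2.1)
    have h2 := Subgroup.card_le_of_le h1
    rwa [Subgroup.card_map_of_injective B.subtype_injective] at h2
  have hC0c : Nat.card (C0.subgroupOf (Z1 P)) = Nat.card C0 := by
    rw [← Subgroup.card_map_of_injective (Z1 P).subtype_injective, subgroupOf_map_subtype, inf_eq_left.2 inf_le_left]
  rw [hC0c] at hcount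
  have hcount2 := card_mul_le hZV hZ2V
  have h1 : Nat.card Z2 = Nat.card (Z1 P) := card_cj m _
  rw [h1] at hcount2
  have hpos : 0 < Nat.card (Z1 P) := card_pos' _
  have hpos2 : 0 < Nat.card C0 := card_pos' _
  -- `|B| |C0| ≤ |B ∩ D| |Z|`, `|Z|² ≤ |C0| |V|`
  have h2 : Nat.card B * Nat.card C0 ≤ Nat.card (B ⊓ O2 M : Subgroup G) * Nat.card (Z1 P) :=
    hcount.trans (Nat.mul_le_mul_right _ hcomap)
  have h3 : (Nat.card B * Nat.card (Z1 P)) * (Nat.card (Z1 P) * Nat.card C0) ≤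
      (Nat.card (B ⊓ O2 M : Subgroup G) * Nat.card (Z1 (O2 M))) * (Nat.card (Z1 P) * Nat.card C0) := by
    calc (Nat.card B * Nat.card (Z1 P)) * (Nat.card (Z1 P) * Nat.card C0)
        = (Nat.card B * Nat.card C0) * (Nat.card (Z1 P) * Nat.card (Z1 P)) := by ring
      _ ≤ (Nat.card (B ⊓ O2 M : Subgroup G) * Nat.card (Z1 P)) * (Nat.card C0 * Nat.card (Z1 (O2 M))) :=
          Nat.mul_le_mul h2 hcount2
      _ = _ := by ring
  exact Nat.le_of_mul_le_mul_right h3 (Nat.mul_pos hpos hpos2)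

omit [Finite G] in
/-- commutators with square-central elements -/
theorem comm_fixed {D : Subgroup G} {p v : G} (hv : v ∈ Z1 D) (hpv : p * v * p⁻¹ ∈ Z1 D)
    (h2 : p * p * v = v * (p * p)) : p * (v⁻¹ * (p * v * p⁻¹)) = v⁻¹ * (p * v * p⁻¹) * p := by
  have h3 : v⁻¹ = v := V_inv hv
  have h4 : v * (p * v * p⁻¹) = (p * v * p⁻¹) * v := V_comm hv hpv
  rw [h3]
  have h5 : p * (v * (p * v * p⁻¹)) = (p * v * p⁻¹) * (p * p * v * (p * p)⁻¹) * p := by group
  rw [h5, h2, mul_assoc v, mul_inv_cancel, mul_one, ← h4]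

include h hM in
/-- Structure from an offender -/
theorem offender {P : Subgroup G} (hP : IsSyl P M) (hne : Z1 P ≠ Z1 (O2 M)) {A : Subgroup G} (hA : A ≤ P)
    (hAD : ¬ A ≤ O2 M) (hAc : ∀ a ∈ A, ∀ b ∈ A, a * b = b * a) (hA2 : ∀ a ∈ A, a * a = 1)
    (hcard : Nat.card (Z1 (O2 M)) ≤ Nat.card A) :
    A ⊓ O2 M = Z1 P ∧ Nat.card A = Nat.card (Z1 (O2 M)) ∧ P = A ⊔ O2 M := by
  obtain ⟨a0, ha0, ha0D⟩ := SetLike.not_le_iff_exists.1 hAD
  have hZV : Z1 P ≤ Z1 (O2 M) := h.Z1_le_V hM hP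
  have hDP : O2 M ≤ P := O2_le_of_isSyl hP
  -- square-central elements act quadratically
  have hquad : ∀ p ∈ P, p * p ∈ O2 M → ∀ v ∈ Z1 (O2 M), v⁻¹ * (p * v * p⁻¹) ∈ Z1 P := by
    intro p hp hp2 v hv
    have hpv := V_conj (hP.le hp) hv
    by_cases hpD : p ∈ O2 M
    · have h1 := hv.2.1 p hpD
      rw [h1, mul_assoc, mul_inv_cancel, mul_one, inv_mul_cancel]
      exact one_mem _
    · apply h.mem_Z1_of_comm hM hP hp hpD (mul_mem (inv_mem hv) hpv)
      exact comm_fixed hv hpv (hv.2.1 _ hp2)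
  have hAq : ∀ v ∈ Z1 (O2 M), ∀ b ∈ A, v⁻¹ * (b * v * b⁻¹) ∈ Z1 P := by
    intro v hv b hb
    apply hquad b (hA hb) _ v hv
    rw [hA2 b hb]
    exact one_mem _
  have h1 := h.card_bound hM hP hne hA hAD hAq
  have h2 : A ⊓ O2 M ≤ Z1 P := by
    rintro x ⟨hx1, hx2⟩
    exact h.mem_Z1_of_comm hM hP (hA ha0) ha0D (h.mem_V hM hx2 (hA2 x hx1)) (hAc a0 ha0 x hx1)
  have h2c := Subgroup.card_le_of_le h2
  have hZpos : 0 < Nat.card (Z1 P) := card_pos' _
  have hVpos : 0 < Nat.card (Z1 (O2 M)) := card_pos' _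
  have h3 : Nat.card A = Nat.card (Z1 (O2 M)) := by
    apply le_antisymm _ hcard
    have h4 : Nat.card A * Nat.card (Z1 P) ≤ Nat.card (Z1 (O2 M)) * Nat.card (Z1 P) := by
      calc _ ≤ _ := h1
        _ ≤ Nat.card (Z1 P) * Nat.card (Z1 (O2 M)) := Nat.mul_le_mul_right _ h2c
        _ = _ := mul_comm _ _
    exact Nat.le_of_mul_le_mul_right h4 hZpos
  have h4 : A ⊓ O2 M = Z1 P := by
    apply Subgroup.eq_of_le_of_card_ge h2
    rw [h3] at h1
    rw [mul_comm] at h1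
    exact Nat.le_of_mul_le_mul_right h1 hVpos
  refine ⟨h4, h3, ?_⟩
  -- the subgroup acting quadratically
  let B : Subgroup G :=
    { carrier := {p | p ∈ P ∧ ∀ v ∈ Z1 (O2 M), v⁻¹ * (p * v * p⁻¹) ∈ Z1 P}
      one_mem' := ⟨one_mem _, fun v _ => by simp⟩
      mul_mem' := by
        rintro a b ⟨ha, ha1⟩ ⟨hb, hb1⟩
        refine ⟨mul_mem ha hb, fun v hv => ?_⟩
        have h5 : v⁻¹ * (a * b * v * (a * b)⁻¹) = v⁻¹ * (a * v * a⁻¹) * (a * (v⁻¹ * (b * v * b⁻¹)) * a⁻¹) := by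
          group
        rw [h5, (hb1 v hv).2.1 a ha, mul_assoc _ a a⁻¹, mul_inv_cancel, mul_one]
        exact mul_mem (ha1 v hv) (hb1 v hv)
      inv_mem' := by
        rintro a ⟨ha, ha1⟩
        refine ⟨inv_mem ha, fun v hv => ?_⟩
        have h5 := ha1 v hv
        have h6 : v⁻¹ * (a⁻¹ * v * a⁻¹⁻¹) = a⁻¹ * (v⁻¹ * (a * v * a⁻¹))⁻¹ * a *
            (a⁻¹ * (v⁻¹ * (a * v * a⁻¹)) * a) * (v⁻¹ * (a⁻¹ * v * a)) := by group
        -- `[v, a⁻¹] = a⁻¹ [v', a]⁻¹ a` with `v' = a⁻¹ v a`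
        have h7 : a⁻¹ * v * a ∈ Z1 (O2 M) := by
          have := V_conj (hP.le (inv_mem ha)) hv
          simpa using this
        have h8 := ha1 _ h7
        have h9 : (a⁻¹ * v * a)⁻¹ * (a * (a⁻¹ * v * a) * a⁻¹) = (a⁻¹ * v * a)⁻¹ * v := by group
        rw [h9] at h8
        have h10 : v⁻¹ * (a⁻¹ * v * a⁻¹⁻¹) = ((a⁻¹ * v * a)⁻¹ * v)⁻¹ := by
          have h11 : v⁻¹ * (a⁻¹ * v * a) = (a⁻¹ * v * a) * v⁻¹ := V_comm (inv_mem hv) h7
          rw [inv_inv, h11]
          have h12 : ((a⁻¹ * v * a)⁻¹ * v)⁻¹ = v⁻¹ * (a⁻¹ * v * a) := by group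
          rw [h12, h11]
        rw [h10]
        exact inv_mem h8 }
  have hBm : ∀ p, p ∈ B ↔ p ∈ P ∧ ∀ v ∈ Z1 (O2 M), v⁻¹ * (p * v * p⁻¹) ∈ Z1 P := fun _ => Iff.rfl
  have hBP : B ≤ P := fun p hp => ((hBm p).1 hp).1
  have hAB : A ≤ B := fun a ha => (hBm a).2 ⟨hA ha, fun v hv => hAq v hv a ha⟩
  have hDB : O2 M ≤ B := fun d hd => (hBm d).2 ⟨hDP hd, fun v hv => hquad d (hDP hd) (mul_mem hd hd) v hv⟩
  have hBD : ¬ B ≤ O2 M := fun h5 => hAD (hAB.trans h5)
  have h5 := h.card_bound hM hP hne hBP hBD fun v hv b hb => ((hBm b).1 hb).2 v hv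
  rw [inf_eq_right.2 hDB] at h5
  have h6 : B = A ⊔ O2 M := by
    symm
    apply Subgroup.eq_of_le_of_card_ge (sup_le hAB hDB)
    have h7 := card_mul_le (le_sup_left : A ≤ A ⊔ O2 M) (le_sup_right : O2 M ≤ A ⊔ O2 M)
    rw [h4, h3] at h7
    have h8 : Nat.card B * Nat.card (Z1 P) ≤ Nat.card (A ⊔ O2 M : Subgroup G) * Nat.card (Z1 P) := by
      calc _ ≤ _ := h5
        _ = Nat.card (Z1 (O2 M)) * Nat.card (O2 M) := mul_comm _ _
        _ ≤ _ := h7
        _ = _ := mul_comm _ _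
    exact Nat.le_of_mul_le_mul_right h8 hZpos
  rw [← h6]
  -- no elements of order 4 on `V`
  apply le_antisymm _ hBP
  by_contra hcon
  obtain ⟨p, hp, hpB⟩ := SetLike.not_le_iff_exists.1 hcon
  obtain ⟨q, hq, hqB, hq2⟩ : ∃ q ∈ P, q ∉ B ∧ q * q ∈ B := by
    obtain ⟨k, hk⟩ := TE.of_pg hP.pg hp
    have key : ∀ k : ℕ, ∀ p ∈ P, p ∉ B → p ^ (2 ^ k) ∈ B → ∃ q ∈ P, q ∉ B ∧ q * q ∈ B := by
      intro k
      induction k with
      | zero => intro p _ h1 h2; rw [pow_zero, pow_one] at h2; exact absurd h2 h1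
      | succ k ih =>
        intro p hp h1 h2
        by_cases h3 : p * p ∈ B
        · exact ⟨p, hp, h1, h3⟩
        · apply ih (p * p) (mul_mem hp hp) h3
          rw [← pow_two, ← pow_mul, ← pow_succ']
          exact h2
    exact key k p hp hpB (by rw [hk]; exact one_mem _)
  have hq2D : q * q ∉ O2 M := by
    intro h7
    exact hqB ((hBm q).2 ⟨hq, fun v hv => hquad q hq h7 v hv⟩)
  have hqD : q ∉ O2 M := fun h7 => hq2D (mul_mem h7 h7)
  -- there is `v ∈ V ∖ Z`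
  obtain ⟨v, hv, hvZ⟩ : ∃ v ∈ Z1 (O2 M), v ∉ Z1 P := by
    by_contra hcon2
    push Not at hcon2
    exact hne (le_antisymm hZV hcon2)
  -- `c(v) = [v, q]`, `c(c(v)) = [v, q²]`
  have hqv := V_conj (hP.le hq) hv
  set c := v⁻¹ * (q * v * q⁻¹) with hcdef
  have hcV : c ∈ Z1 (O2 M) := mul_mem (inv_mem hv) hqv
  have hqc := V_conj (hP.le hq) hcV
  set e := c⁻¹ * (q * c * q⁻¹) with hedef
  have heV : e ∈ Z1 (O2 M) := mul_mem (inv_mem hcV) hqc
  have h7 : v⁻¹ * (q * q * v * (q * q)⁻¹) = e := by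
    have h8 : q * v * q⁻¹ = v * c := by rw [hcdef]; group
    have h9 : q * c * q⁻¹ = c * e := by rw [hedef]; group
    have h10 : q * q * v * (q * q)⁻¹ = q * (q * v * q⁻¹) * q⁻¹ := by group
    rw [h10, h8]
    have h11 : q * (v * c) * q⁻¹ = (q * v * q⁻¹) * (q * c * q⁻¹) := by group
    rw [h11, h8, h9]
    have h12 : v⁻¹ * (v * c * (c * e)) = c * c * e := by group
    rw [h12, hcV.2.2, one_mul]
  have he : e ∈ Z1 P := by
    rw [← h7]
    exact ((hBm _).1 hq2).2 v hv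
  -- `e` is fixed by `q`, so `c(c(c)) = 1`; then `[c, q²] = 1`, so `c ∈ Z`, so `e = 1`
  have h8 : q * q * c = c * (q * q) := by
    have h9 : q * c * q⁻¹ = c * e := by rw [hedef]; group
    have h10 : q * e = e * q := he.2.1 q hq
    have h11 : q * c = c * e * q := by rw [← h9]; group
    calc q * q * c = q * (q * c) := by group
      _ = q * (c * e * q) := by rw [h11]
      _ = (q * c) * e * q := by group
      _ = c * e * q * e * q := by rw [h11]
      _ = c * e * (q * e) * q := by group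
      _ = c * e * (e * q) * q := by rw [h10]
      _ = c * (e * e) * (q * q) := by group
      _ = c * (q * q) := by rw [he.2.2, mul_one]
  have h9 : c ∈ Z1 P := h.mem_Z1_of_comm hM hP (mul_mem hq hq) hq2D hcV h8
  have h10 : e = 1 := by
    rw [hedef, h9.2.1 q hq]
    group
  have h11 : q * q * v = v * (q * q) := by
    rw [h10] at h7
    have h12 : q * q * v * (q * q)⁻¹ = v := by
      have h13 := congrArg (fun t => v * t) h7
      simpa using h13
    calc q * q * v = (q * q * v * (q * q)⁻¹) * (q * q) := by group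
      _ = v * (q * q) := by rw [h12]
  exact hvZ (h.mem_Z1_of_comm hM hP (mul_mem hq hq) hq2D hv h11)

end Hyp

end Cfsg.Agent.H317
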