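import Cfsg.Agent.H317.Local
import Cfsg.Agent.S0222
import Cfsg.Agent.S0243
import Cfsg.Agent.S0348
import Cfsg.Agent.S1170
import Cfsg.Agent.ThreePrime.Main
import Cfsg.Agent.TwoGenCore.IsoMEleven

/-!
# The conclusion of S3236 for simple groups (helper317)
-/

set_option autoImplicit false

namespace Cfsg.Agent.H317

open Subgroup

/-- the list of groups in S3236 -/
def Concl (K : Type*) [Group K] : Prop :=
  (∃ (F : Type) (_ : Field F) (_ : Fintype F) (n : ℕ), 5 < Fintype.card F ∧ (Fintype.card F = 2 ^ n + 1 ∨ Fintype.card F + 1 = 2 ^ n) ∧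
      Nonempty (K ≃* Matrix.ProjectiveSpecialLinearGroup (Fin 2) F)) ∨
    (∃ (F : Type) (_ : Field F) (_ : Fintype F), Fintype.card F = 3 ∧ Nonempty (K ≃* Matrix.ProjectiveSpecialLinearGroup (Fin 3) F)) ∨
    Cfsg.Spor.IsoM11 K ∨
    (∃ (F : Type) (_ : Field F) (_ : Fintype F) (n : ℕ), 2 ≤ n ∧ Fintype.card F = 2 ^ n ∧
      (Nonempty (K ≃* Matrix.ProjectiveSpecialLinearGroup (Fin 2) F) ∨ Nonempty (K ≃* Matrix.ProjectiveSpecialLinearGroup (Fin 3) F) ∨
        Nonempty (K ≃* Cfsg.PSp 2 F))) ∨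
    Cfsg.Lie.IsoSuzuki K ∨
    (∃ (F : Type) (_ : Field F) (_ : Fintype F) (n : ℕ), 2 ≤ n ∧ Fintype.card F = (2 ^ n) ^ 2 ∧ Nonempty (K ≃* Cfsg.PSU 3 F (2 ^ n)))

theorem card_psl2 {F : Type*} [Field F] [Fintype F] {q : ℕ} (hF : Fintype.card F = q) :
    Nat.gcd 2 (q - 1) * ((q - 1) * Nat.card (Matrix.ProjectiveSpecialLinearGroup (Fin 2) F)) =
      (q ^ 2 - 1) * (q ^ 2 - q) := by
  have h := Cfsg.Agent.S0243.result hF 2 le_rfl
  rw [Fin.prod_univ_two] at h
  simpa using h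

theorem card_psl3 {F : Type*} [Field F] [Fintype F] {q : ℕ} (hF : Fintype.card F = q) :
    Nat.gcd 3 (q - 1) * ((q - 1) * Nat.card (Matrix.ProjectiveSpecialLinearGroup (Fin 3) F)) =
      (q ^ 3 - 1) * (q ^ 3 - q) * (q ^ 3 - q ^ 2) := by
  have h := Cfsg.Agent.S0243.result hF 3 (by norm_num)
  rw [Fin.prod_univ_three] at h
  simpa using h

theorem pow_of_charP {F : Type*} [Field F] [Fintype F] [CharP F 2] : ∃ n, 1 ≤ n ∧ Fintype.card F = 2 ^ n := by
  obtain ⟨n, -, hn⟩ := FiniteField.card F 2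
  exact ⟨n, n.2, hn⟩

theorem pow_of_sq {F : Type*} [Field F] [Fintype F] {q : ℕ} (hq : Fintype.card F = q ^ 2) (he : Even q) :
    ∃ n, q = 2 ^ n := by
  obtain ⟨p, -, n, hp, hn⟩ := FiniteField.card' F
  rw [hq] at hn
  have h2 : p = 2 := by
    have h3 : 2 ∣ p ^ (n : ℕ) := by
      rw [← hn]
      exact dvd_pow he.two_dvd (by norm_num)
    exact ((Nat.prime_dvd_prime_iff_eq Nat.prime_two hp).1 (Nat.prime_two.dvd_of_dvd_pow h3)).symm
  rw [h2] at hn
  have h3 : q ∣ 2 ^ (n : ℕ) := by rw [← hn]; exact dvd_pow_self q (by norm_num)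
  obtain ⟨m, -, hm⟩ := (Nat.dvd_prime_pow Nat.prime_two).1 h3
  exact ⟨m, hm⟩

theorem isoSuzuki_of {G : Type*} [Group G] [Finite G] [IsSimpleGroup G] (hna : ∃ a b : G, a * b ≠ b * a)
    (h : Cfsg.IsSuzuki G) : Cfsg.Lie.IsoSuzuki G := by
  apply Cfsg.Agent.ThreePrime.Main.isoSuzuki hna
  obtain ⟨-, m, -, hm⟩ := h
  rw [hm]
  have h1 : (2 ^ (2 * m + 1)) % 3 = 2 := by
    rw [pow_succ, pow_mul, Nat.mul_mod, Nat.pow_mod]
    norm_num
  set q := 2 ^ (2 * m + 1) with hq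
  obtain ⟨k, hk⟩ : ∃ k, q = 3 * k + 2 := ⟨q / 3, by omega⟩
  rw [Nat.Prime.dvd_mul Nat.prime_three, Nat.Prime.dvd_mul Nat.prime_three]
  rintro ((h2 | h2) | h2)
  · have h3 := Nat.prime_three.dvd_of_dvd_pow h2
    omega
  · rw [hk] at h2
    have h3 : (3 * k + 2) ^ 2 + 1 = 3 * (3 * k ^ 2 + 4 * k + 1) + 2 := by ring
    rw [h3] at h2
    omega
  · omega

theorem not_sixteen {F : Type*} [Field F] [Fintype F] (h : Fintype.card F % 16 = 7 ∨ Fintype.card F % 16 = 9) :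
    ¬ 16 ∣ Nat.card (Matrix.ProjectiveSpecialLinearGroup (Fin 2) F) := by
  rintro ⟨c, hc⟩
  have h1 := card_psl2 (F := F) rfl
  set q := Fintype.card F with hq
  have hq1 : 1 ≤ q := by omega
  have hg : Nat.gcd 2 (q - 1) = 2 := by
    apply Nat.gcd_eq_left
    omega
  rw [hg, hc] at h1
  obtain ⟨r, hr⟩ : ∃ r, q = r + 1 := ⟨q - 1, by omega⟩
  rw [hr] at h1
  have h2 : (r + 1) ^ 2 - 1 = r * (r + 2) := by
    have : (r + 1) ^ 2 = r * (r + 2) + 1 := by ring
    omega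
  have h3 : (r + 1) ^ 2 - (r + 1) = r * (r + 1) := by
    have : (r + 1) ^ 2 = r * (r + 1) + (r + 1) := by ring
    omega
  rw [h2, h3, Nat.add_sub_cancel] at h1
  have hr0 : 0 < r := by omega
  have h4 : 32 * c = (r + 2) * (r * (r + 1)) := by
    apply Nat.eq_of_mul_eq_mul_left hr0
    calc r * (32 * c) = 2 * (r * (16 * c)) := by ring
      _ = _ := by rw [h1]; ring
  have h5 : ((r : ZMod 32) + 2) * (r * (r + 1)) = 0 := by
    have h6 := congrArg (fun n : ℕ => (n : ZMod 32)) h4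
    push_cast at h6
    rw [← h6]
    have h7 : (32 : ZMod 32) = 0 := by decide
    rw [h7, zero_mul]
  have h6 : ∀ x : ZMod 32, (x.val % 16 = 6 ∨ x.val % 16 = 8) → (x + 2) * (x * (x + 1)) ≠ 0 := by decide
  apply h6 (r : ZMod 32) _ h5
  rw [ZMod.val_natCast]
  omega

variable {G : Type*} [Group G] [Finite G]

/-- **S3236 for simple groups.** -/
theorem simple_main (h : Hyp G) [IsSimpleGroup G] (hna : ∃ a b : G, a * b ≠ b * a) : Concl G := by
  rcases local_main h hna with ⟨H, hH⟩ | ⟨T, A, hA, hA1, hA2, hT⟩ | ⟨h1, h8⟩ | ⟨⟨e⟩⟩ | hM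
  · rcases Cfsg.Agent.S0222.result hna H hH with ⟨F, iF, iT, hc, h4, he⟩ | h1 | ⟨F, iF, iT, q, hq, hqe, h4, he⟩
    · obtain ⟨n, hn, hcard⟩ := pow_of_charP (F := F)
      refine Or.inr (Or.inr (Or.inr (Or.inl ⟨F, iF, iT, n, ?_, hcard, Or.inl he⟩)))
      rw [hcard] at h4
      rcases n with _ | _ | n
      · omega
      · norm_num at h4
      · omega
    · exact Or.inr (Or.inr (Or.inr (Or.inr (Or.inl (isoSuzuki_of hna h1)))))
    · obtain ⟨n, rfl⟩ := pow_of_sq hq hqe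
      refine Or.inr (Or.inr (Or.inr (Or.inr (Or.inr ⟨F, iF, iT, n, ?_, hq, he⟩))))
      rcases n with _ | _ | n
      · norm_num at h4
      · norm_num at h4
      · omega
  · haveI : Fact (Nat.Prime 2) := ⟨Nat.prime_two⟩
    have h16 : 16 ∣ Nat.card G := by
      refine dvd_trans ?_ (Subgroup.card_subgroup_dvd_card (T : Subgroup G))
      obtain ⟨k, hk⟩ := IsPGroup.iff_card.1 T.isPGroup'
      rw [hk] at hT ⊢
      have h5 : 4 ≤ k := by
        by_contra h6
        have h7 : k ≤ 3 := by omega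
        have h8 : 2 ^ k ≤ 2 ^ 3 := Nat.pow_le_pow_right (by norm_num) h7
        omega
      exact pow_dvd_pow 2 h5
    rcases Cfsg.Agent.S1170.result T A hA hA1 hA2 with ⟨F, iF, iT, hq, ⟨e⟩⟩ | ⟨F, iF, iT, q, hq, hqe, h4, he⟩ | h1 |
        ⟨F, iF, iT, hc, ⟨e⟩⟩ | ⟨F, iF, iT, hc, h4, he⟩ | ⟨⟨e⟩⟩
    · exfalso
      rw [Nat.card_congr e.toEquiv] at h16
      exact not_sixteen hq h16
    · obtain ⟨n, rfl⟩ := pow_of_sq hq hqe
      refine Or.inr (Or.inr (Or.inr (Or.inr (Or.inr ⟨F, iF, iT, n, ?_, hq, he⟩))))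
      rcases n with _ | _ | n
      · norm_num at h4
      · norm_num at h4
      · omega
    · exact Or.inr (Or.inr (Or.inr (Or.inr (Or.inl (isoSuzuki_of hna h1)))))
    · obtain ⟨n, hn, hcard⟩ := pow_of_charP (F := F)
      refine Or.inr (Or.inr (Or.inr (Or.inl ⟨F, iF, iT, n, ?_, hcard, Or.inr (Or.inl ⟨e⟩)⟩)))
      by_contra h2
      have h3 : n = 1 := by omega
      rw [h3] at hcard
      have h4 := card_psl3 hcard
      norm_num at h4
      rw [Nat.card_congr e.toEquiv, h4] at h16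
      norm_num at h16
    · obtain ⟨n, hn, hcard⟩ := pow_of_charP (F := F)
      refine Or.inr (Or.inr (Or.inr (Or.inl ⟨F, iF, iT, n, ?_, hcard, Or.inr (Or.inr he)⟩)))
      rw [hcard] at h4
      rcases n with _ | _ | n
      · omega
      · norm_num at h4
      · omega
    · exfalso
      rw [Nat.card_congr e.toEquiv] at h16
      have h1 := two_mul_nat_card_alternatingGroup (α := Fin 7)
      rw [Nat.card_perm, Nat.card_fin] at h1
      have h2 : Nat.factorial 7 = 5040 := by decide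
      omega
  · rcases Cfsg.Agent.S0348.result hna h1 with ⟨F, iF, iT, hq, ⟨e⟩⟩ | ⟨F, iF, iT, hq, ⟨e⟩⟩ | h1
    · have hsmall : ∀ q, Fintype.card F = q → (q = 2 ∨ q = 3 ∨ q = 5) → False := by
        intro q hF hq
        have h3 := card_psl2 hF
        rw [Nat.card_congr e.toEquiv] at h8
        rcases hq with rfl | rfl | rfl
        · norm_num at h3
          rw [h3] at h8
          norm_num at h8
        · norm_num at h3
          omega
        · norm_num at h3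
          omega
      rcases hq with hq | ⟨n, hq⟩ | ⟨hp, k, hk⟩
      · refine Or.inl ⟨F, iF, iT, 3, by omega, Or.inl (by rw [hq]; norm_num), ⟨e⟩⟩
      · refine Or.inr (Or.inr (Or.inr (Or.inl ⟨F, iF, iT, n, ?_, hq, Or.inl ⟨e⟩⟩)))
        rcases n with _ | _ | n
        · exfalso
          have h3 := Fintype.one_lt_card (α := F)
          rw [hq] at h3
          norm_num at h3
        · exfalso
          exact hsmall 2 (by rw [hq]; norm_num) (Or.inl rfl)
        · omega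
      · refine Or.inl ⟨F, iF, iT, k, ?_, hk, ⟨e⟩⟩
        by_contra h3
        have h4 := hp.two_le
        have h5 : Fintype.card F ≠ 4 := by
          intro h6
          rw [h6] at hp
          exact absurd hp (by decide)
        exact hsmall _ rfl (by omega)
    · exact Or.inr (Or.inr (Or.inr (Or.inl ⟨F, iF, iT, 2, le_rfl, by rw [hq]; norm_num, Or.inr (Or.inl ⟨e⟩)⟩)))
    · exact Or.inr (Or.inr (Or.inr (Or.inr (Or.inl (isoSuzuki_of hna h1)))))
  · haveI : Fact (Nat.Prime 3) := ⟨Nat.prime_three⟩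
    exact Or.inr (Or.inl ⟨ZMod 3, inferInstance, inferInstance, by simp, ⟨e⟩⟩)
  · exact Or.inr (Or.inr (Or.inl (Cfsg.Agent.TwoGenCore.IsoMEleven.isoM11 hM)))

end Cfsg.Agent.H317
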