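import Cfsg.Agent.H317.Pair
import Cfsg.Agent.Transfer.AlperinFusion
import Cfsg.Prelude.Def_TwoFusion

/-!
# Fusion under `Hyp` (helper317)

* `tame`: tame Sylow intersections are 2-cores of members of `𝓜`;
* `stronglyClosed_of`: a criterion for strong closure.
-/

set_option autoImplicit false

namespace Cfsg.Agent.H317

open Subgroup Cfsg.Agent.Transfer.AlperinFusion

variable {G : Type*} [Group G]

theorem exists_norm [Finite G] {U S : Subgroup G} (hU : U ≤ S) (hne : U ≠ S) (hS : IsPGroup 2 S) :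
    ∃ x ∈ S, x ∉ U ∧ x ∈ normalizer (U : Set G) := by
  have : Fact (Nat.Prime 2) := ⟨Nat.prime_two⟩
  have hnil : Group.IsNilpotent S := hS.isNilpotent
  have h1 : U.subgroupOf S < ⊤ := by
    rw [lt_top_iff_ne_top]
    intro h2
    exact hne (le_antisymm hU (subgroupOf_eq_top.1 h2))
  have h2 := Group.normalizerCondition_of_isNilpotent (G := S) _ h1
  obtain ⟨x, hx1, hx2⟩ := SetLike.exists_of_lt h2
  refine ⟨x, x.2, fun h3 => hx2 h3, ?_⟩
  rw [mem_normalizer_iff] at hx1 ⊢
  intro y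
  constructor
  · intro hy
    exact (hx1 ⟨y, hU hy⟩).1 hy
  · intro hy
    have h3 : y ∈ S := by
      have h4 : y = (x : G)⁻¹ * (x * y * (x : G)⁻¹) * x := by group
      rw [h4]
      exact mul_mem (mul_mem (inv_mem x.2) (hU hy)) x.2
    exact (hx1 ⟨y, h3⟩).2 hy

theorem isSyl_of_relIndex [Finite G] {P N : Subgroup G} (hP : IsPGroup 2 P) (hN : P ≤ N)
    (h : ¬ 2 ∣ P.relIndex N) : IsSyl P N where
  le := hN
  pg := hP
  max R h1 h2 h3 := by
    have : Fact (Nat.Prime 2) := ⟨Nat.prime_two⟩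
    have h4 := relIndex_mul_relIndex P R N h1 h2
    obtain ⟨k, hk⟩ := IsPGroup.iff_card.1 h3
    have h5 : P.relIndex R ∣ 2 ^ k := by
      rw [← hk]
      exact relIndex_dvd_card P R
    obtain ⟨j, -, hj⟩ := (Nat.dvd_prime_pow Nat.prime_two).1 h5
    rcases j with _ | j
    · rw [pow_zero] at hj
      exact le_antisymm (relIndex_eq_one.1 hj) h1
    · exfalso
      apply h
      rw [← h4, hj, pow_succ, mul_assoc, mul_left_comm]
      exact Dvd.intro _ rfl

variable [Finite G]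

theorem isSyl_top (S : Sylow 2 G) : IsSyl (S : Subgroup G) ⊤ where
  le := le_top
  pg := S.isPGroup'
  max Q h1 _ h3 := S.is_maximal' h3 h1

/-- tame intersections -/
theorem Hyp.tame (h : Hyp G) (S Q : Sylow 2 G) (ht : IsTame S Q)
    (h1 : ((S : Subgroup G) ⊓ (Q : Subgroup G)) ≠ ⊥) (h2 : ((S : Subgroup G) ⊓ (Q : Subgroup G)) ≠ S) :
    ∃ M, InM M ∧ normalizer (((S : Subgroup G) ⊓ (Q : Subgroup G) : Subgroup G) : Set G) = M ∧
      O2 M = (S : Subgroup G) ⊓ (Q : Subgroup G) ∧ IsSyl ((S : Subgroup G) ⊓ M) M := by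
  set U : Subgroup G := (S : Subgroup G) ⊓ (Q : Subgroup G) with hU
  set N : Subgroup G := normalizer (U : Set G) with hN
  have hS := S.isPGroup'
  have hQ := Q.isPGroup'
  have hUN : U ≤ N := le_normalizer
  have hS1 : IsSyl ((S : Subgroup G) ⊓ N) N := isSyl_of_relIndex (hS.to_le inf_le_left) inf_le_right ht.1
  have hQ1 : IsSyl ((Q : Subgroup G) ⊓ N) N := isSyl_of_relIndex (hQ.to_le inf_le_left) inf_le_right ht.2
  obtain ⟨x, hxS, hxU, hxN⟩ := exists_norm inf_le_left h2 hS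
  have hO : O2 N = U := by
    apply le_antisymm
    · exact le_inf ((O2_le_of_isSyl hS1).trans inf_le_left) ((O2_le_of_isSyl hQ1).trans inf_le_left)
    · exact le_O2 hUN (hS.to_le inf_le_left) le_rfl
  have hn : ¬ TC N := by
    intro h3
    have h4 := h3.isSyl_eq hS1
    apply hxU
    have h5 : x ∈ O2 N := by
      rw [← h4]
      exact ⟨hxS, hxN⟩
    rw [hO] at h5
    exact h5
  obtain ⟨M, hM, hNM⟩ := Hyp.exists_InM hn (by rw [hO]; exact h1)
  have h3 := h.O2_eq_inf hM hNM hn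
  rw [hO] at h3
  have h4 : U = O2 M := by
    by_contra hne
    obtain ⟨y, hy, hyU, hyN⟩ := exists_norm (h3.le.trans inf_le_right) hne (O2_pg M)
    apply hyU
    rw [h3]
    exact ⟨hyN, hy⟩
  have h5 : N = M := by
    rw [hN, h4]
    exact hM.norm_O2
  refine ⟨M, hM, h5, h4.symm, ?_⟩
  rw [← h5]
  exact hS1

/-- a criterion for strong closure -/
theorem Hyp.stronglyClosed_of (h : Hyp G) (S : Sylow 2 G) {W : Subgroup G} (hW : W ≤ S)
    (hN : ∀ g ∈ normalizer ((S : Subgroup G) : Set G), ∀ w ∈ W, g * w * g⁻¹ ∈ W)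
    (hT : ∀ M, InM M → IsSyl ((S : Subgroup G) ⊓ M) M → ∀ m ∈ M, ∀ w ∈ W, w ∈ O2 M → m * w * m⁻¹ ∈ W) :
    Cfsg.IsStronglyClosed W (S : Subgroup G) := by
  have : Fact (Nat.Prime 2) := ⟨Nat.prime_two⟩
  refine ⟨hW, fun w hw g hg => ?_⟩
  have key : ∀ (A : Set G) (g : G), FusionChain S A g → A ⊆ (W : Set G) → (fun a => g⁻¹ * a * g) '' A ⊆ (W : Set G) := by
    intro A g hc
    induction hc with
    | nil A => intro hA; rw [image_conj_one]; exact hA
    | cons A Q x g hQ hx hxp hA hc ih =>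
      intro hAW
      rw [← image_conj_conj]
      apply ih
      rintro _ ⟨a, ha, rfl⟩
      have haW := hAW ha
      have haU := hA ha
      show x⁻¹ * a * x ∈ W
      by_cases h1 : ((S : Subgroup G) ⊓ (Q : Subgroup G)) = ⊥
      · have h2 : a ∈ ((S : Subgroup G) ⊓ (Q : Subgroup G)) := haU
        rw [h1, mem_bot] at h2
        subst h2
        simp
      · by_cases h2 : ((S : Subgroup G) ⊓ (Q : Subgroup G)) = S
        · rw [h2] at hx
          have := hN x⁻¹ (inv_mem hx) a haW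
          simpa using this
        · obtain ⟨M, hM, hNM, hO, hSM⟩ := h.tame S Q hQ h1 h2
          rw [hNM] at hx
          have := hT M hM hSM x⁻¹ (inv_mem hx) a haW (by rw [hO]; exact haU)
          simpa using this
  have h1 := fusionChain_of_conj_subset (p := 2) S ({w} : Set G) g⁻¹
    (by rintro _ rfl; exact hW hw) (by
      rintro _ ⟨a, rfl, rfl⟩
      show g⁻¹⁻¹ * a * g⁻¹ ∈ (S : Subgroup G)
      rw [inv_inv]
      exact hg)
  have h2 := key _ _ h1 (by rintro _ rfl; exact hw)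
  have h3 := h2 ⟨w, rfl, rfl⟩
  simpa using h3

end Cfsg.Agent.H317
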