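import Cfsg.Agent.H317.Base

/-!
# The hypothesis on non-2-closed maximal 2-local subgroups (helper317)
-/

set_option autoImplicit false

namespace Cfsg.Agent.H317

open Subgroup

variable {G : Type*} [Group G]

/-- non-2-closed maximal 2-local subgroups -/
structure InM (M : Subgroup G) : Prop where
  loc : ∃ T : Subgroup G, IsPGroup 2 T ∧ T ≠ ⊥ ∧ M = normalizer (T : Set G)
  max : ∀ W : Subgroup G, IsPGroup 2 W → W ≠ ⊥ → M ≤ normalizer (W : Set G) → normalizer (W : Set G) = M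
  ntc : ¬ TC M

/-- the hypothesis -/
structure Hyp (G : Type*) [Group G] : Prop where
  cent : ∀ M : Subgroup G, InM M → centralizer (O2 M : Set G) ≤ O2 M
  ti : ∀ M : Subgroup G, InM M → ∀ P Q : Subgroup G, IsSyl P M → IsSyl Q M → ∀ x ∈ P, x ∈ Q → x ∉ O2 M → P = Q
  cen : ∀ M : Subgroup G, InM M → ∀ x ∈ O2 M, x * x = 1 → ∃ P, IsSyl P M ∧ x ∈ Z1 P

theorem InM.O2_ne_bot [Finite G] {M : Subgroup G} (h : InM M) : O2 M ≠ ⊥ := by
  obtain ⟨T, hT, hT1, rfl⟩ := h.loc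
  intro h1
  apply hT1
  rw [eq_bot_iff, ← h1]
  exact le_O2 le_normalizer hT le_rfl

theorem InM.norm_O2 [Finite G] {M : Subgroup G} (h : InM M) : normalizer (O2 M : Set G) = M :=
  h.max _ (O2_pg M) h.O2_ne_bot (O2_le_normalizer M)

theorem InM.cj [Finite G] {M : Subgroup G} (h : InM M) (g : G) : InM (cj g M) where
  loc := by
    obtain ⟨T, hT, hT1, rfl⟩ := h.loc
    exact ⟨Cfsg.Agent.H317.cj g T, isPGroup_cj hT, cj_ne_bot hT1, cj_normalizer g T⟩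
  max W hW hW1 hMW := by
    have h1 := h.max (Cfsg.Agent.H317.cj g⁻¹ W) (isPGroup_cj hW) (cj_ne_bot hW1) (by
      rw [← cj_normalizer, ← cj_le_cj (g := g), cj_cj_inv]
      exact hMW)
    rw [← cj_normalizer] at h1
    rw [← h1, cj_cj_inv]
  ntc hcon := by
    apply h.ntc
    intro x hx h2
    have h3 : g * x * g⁻¹ ∈ O2 (Cfsg.Agent.H317.cj g M) := by
      apply hcon _ (conj_mem_cj hx)
      obtain ⟨k, hk⟩ := h2
      exact ⟨k, by rw [conj_pow, hk]; simp⟩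
    rw [O2_cj, conj_mem_cj_iff] at h3
    exact h3

/-- every subgroup normalizing a nontrivial 2-subgroup lies in a maximal 2-local -/
theorem exists_max [Finite G] {T : Subgroup G} (hT : IsPGroup 2 T) (hT1 : T ≠ ⊥) :
    ∃ M : Subgroup G, normalizer (T : Set G) ≤ M ∧
      (∃ T : Subgroup G, IsPGroup 2 T ∧ T ≠ ⊥ ∧ M = normalizer (T : Set G)) ∧
      (∀ W : Subgroup G, IsPGroup 2 W → W ≠ ⊥ → M ≤ normalizer (W : Set G) → normalizer (W : Set G) = M) := by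
  classical
  let s : Set (Subgroup G) := {M | ∃ T : Subgroup G, IsPGroup 2 T ∧ T ≠ ⊥ ∧ M = normalizer (T : Set G)}
  have hs : s.Finite := Set.toFinite s
  obtain ⟨M, hM, hmax⟩ := hs.exists_le_maximal (a := normalizer (T : Set G)) ⟨T, hT, hT1, rfl⟩
  refine ⟨M, hM, hmax.1, fun W hW hW1 h => ?_⟩
  exact le_antisymm (hmax.2 ⟨W, hW, hW1, rfl⟩ h) h

variable [Finite G]

namespace Hyp

variable (h : Hyp G) {M : Subgroup G} (hM : InM M)

include h hM

/-- (H1) -/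
theorem O2_eq_inf {X : Subgroup G} (hX : X ≤ M) (hn : ¬ TC X) : O2 X = X ⊓ O2 M := by
  apply le_antisymm
  · refine le_inf (O2_le X) ?_
    by_contra hcon
    rw [SetLike.not_le_iff_exists] at hcon
    obtain ⟨x, hx, hx2⟩ := hcon
    apply hn
    obtain ⟨P, hP, hXP⟩ := exists_isSyl ((O2_le X).trans hX) (O2_pg X)
    have hnorm : X ≤ normalizer (P : Set G) := by
      intro y hy
      rw [← cj_eq_iff]
      refine h.ti M hM _ _ (hP.cj_self (hX hy)) hP x ?_ (hXP hx) hx2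
      rw [mem_cj]
      apply hXP
      have := O2_conj (inv_mem hy) hx
      simpa using this
    intro z hz hz2
    have h1 : z ∈ P := hP.mem_of_normalizer (hX hz) hz2 (hnorm hz)
    have h2 : X ⊓ P ≤ O2 X := by
      apply le_O2 inf_le_left (hP.pg.to_le inf_le_right)
      intro y hy
      apply mem_normalizer_of_forall
      rintro w ⟨hw1, hw2⟩
      exact ⟨X.mul_mem (X.mul_mem hy hw1) (X.inv_mem hy), conj_mem_of_mem_normalizer (hnorm hy) hw2⟩
    exact h2 ⟨hz, h1⟩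
  · apply le_O2 inf_le_left ((O2_pg M).to_le inf_le_right)
    intro y hy
    apply mem_normalizer_of_forall
    rintro z ⟨hz1, hz2⟩
    exact ⟨X.mul_mem (X.mul_mem hy hz1) (X.inv_mem hy), O2_conj (hX hy) hz2⟩

omit [Finite G] in
theorem sq_mem_Z1 {x : G} (hx : x ∈ O2 M) (hx2 : x * x = 1) (hle : ∀ P, IsSyl P M → O2 M ≤ P) : x ∈ Z1 (O2 M) := by
  obtain ⟨P, hP, hxP⟩ := h.cen M hM x hx hx2
  exact ⟨hx, fun y hy => hxP.2.1 y (hle P hP hy), hx2⟩

theorem mem_V {x : G} (hx : x ∈ O2 M) (hx2 : x * x = 1) : x ∈ Z1 (O2 M) :=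
  h.sq_mem_Z1 hM hx hx2 fun _ hP => O2_le_of_isSyl hP

theorem Z1_le_V {P : Subgroup G} (hP : IsSyl P M) : Z1 P ≤ Z1 (O2 M) := by
  intro x hx
  apply h.mem_V hM _ hx.2.2
  apply h.cent M hM
  rw [mem_centralizer_iff]
  intro y hy
  exact hx.2.1 y (O2_le_of_isSyl hP hy)

theorem exists_Z1 {x : G} (hx : x ∈ Z1 (O2 M)) : ∃ P, IsSyl P M ∧ x ∈ Z1 P :=
  h.cen M hM x hx.1 hx.2.2

/-- centralizers on `V` of elements outside the 2-core -/
theorem mem_Z1_of_comm {P : Subgroup G} (hP : IsSyl P M) {a v : G} (ha : a ∈ P) (ha2 : a ∉ O2 M)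
    (hv : v ∈ Z1 (O2 M)) (hc : a * v = v * a) : v ∈ Z1 P := by
  obtain ⟨Q, hQ, hvQ⟩ := h.exists_Z1 hM hv
  let C : Subgroup G := M ⊓ centralizer {v}
  have hQC : Q ≤ C := le_inf hQ.le fun y hy => by
    rw [mem_centralizer_singleton_iff]
    exact hvQ.2.1 y hy
  have haC : a ∈ C := ⟨hP.le ha, mem_centralizer_singleton_iff.2 hc⟩
  obtain ⟨R, hR, haR⟩ := (TE.of_pg hP.pg ha).exists_isSyl haC
  have hR2 := hQ.up hQC inf_le_left hR
  have hPR : P = R := h.ti M hM _ _ hP hR2 a ha haR ha2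
  refine ⟨O2_le_of_isSyl hP hv.1, fun y hy => ?_, hv.2.2⟩
  rw [hPR] at hy
  exact mem_centralizer_singleton_iff.1 (hR.le hy).2

/-- the `Z`-lemma -/
theorem Z1_eq_of_normalize {P Q : Subgroup G} (hP : IsSyl P M) (hQ : IsSyl Q M) {a : G} (ha : a ∈ P)
    (ha2 : a ∉ O2 M) (hn : a ∈ normalizer (Z1 Q : Set G)) : Z1 Q = Z1 P := by
  let N : Subgroup G := M ⊓ normalizer (Z1 Q : Set G)
  have hQN : Q ≤ N := le_inf hQ.le (le_normalizer.trans (Z1_normalizer Q))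
  have haN : a ∈ N := ⟨hP.le ha, hn⟩
  obtain ⟨R, hR, haR⟩ := (TE.of_pg hP.pg ha).exists_isSyl haN
  have hR2 := hQ.up hQN inf_le_left hR
  have hPR : P = R := h.ti M hM _ _ hP hR2 a ha haR ha2
  obtain ⟨n, hn, hnR⟩ := (hQ.of_le hQN inf_le_left).exists_cj hR
  rw [hPR, ← hnR, ← cj_Z1]
  exact (cj_eq_iff.2 hn.2).symm

/-- a Sylow containing an element outside the 2-core is unique -/
theorem syl_le {P : Subgroup G} (hP : IsSyl P M) {a : G} (ha : a ∈ P) (ha2 : a ∉ O2 M) {Q : Subgroup G}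
    (hQ : Q ≤ M) (hQ2 : IsPGroup 2 Q) (haQ : a ∈ Q) : Q ≤ P := by
  obtain ⟨R, hR, hQR⟩ := exists_isSyl hQ hQ2
  rw [h.ti M hM P R hP hR a ha (hQR haQ) ha2]
  exact hQR

/-- a subgroup centralizing `O₂(M)/V` and `V` lies in `O₂(M)` -/
theorem mem_O2_of_trivial {W : Subgroup G} (hW1 : W ≤ O2 M) (hW2 : ∀ w ∈ W, w * w = 1)
    (hWM : M ≤ normalizer (W : Set G)) {y : G} (hy : y ∈ M)
    (h1 : ∀ w ∈ W, y * w = w * y) (h2 : ∀ d ∈ O2 M, d⁻¹ * (y * d * y⁻¹) ∈ W) : y ∈ O2 M := by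
  let K : Subgroup G :=
    { carrier := {y | y ∈ M ∧ (∀ w ∈ W, y * w = w * y) ∧ ∀ d ∈ O2 M, d⁻¹ * (y * d * y⁻¹) ∈ W}
      one_mem' := ⟨one_mem _, fun w _ => by simp, fun d _ => by simp⟩
      mul_mem' := by
        rintro a b ⟨ha, ha1, ha2⟩ ⟨hb, hb1, hb2⟩
        refine ⟨mul_mem ha hb, fun w hw => ?_, fun d hd => ?_⟩
        · rw [mul_assoc, hb1 w hw, ← mul_assoc, ha1 w hw, mul_assoc]
        · have h3 := hb2 d hd
          have h4 := ha2 d hd
          have h5 : d⁻¹ * (a * b * d * (a * b)⁻¹) =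
              d⁻¹ * (a * d * a⁻¹) * (a * (d⁻¹ * (b * d * b⁻¹)) * a⁻¹) := by group
          rw [h5, ha1 _ h3]
          rw [mul_assoc _ a a⁻¹, mul_inv_cancel, mul_one]
          exact mul_mem h4 h3
      inv_mem' := by
        rintro a ⟨ha, ha1, ha2⟩
        refine ⟨inv_mem ha, fun w hw => ?_, fun d hd => ?_⟩
        · have := ha1 w hw
          have h6 : a⁻¹ * w = a⁻¹ * (w * a) * a⁻¹ := by group
          rw [h6, ← this]
          group
        · have h3 := ha2 d hd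
          have h4 : d⁻¹ * (a⁻¹ * d * a⁻¹⁻¹) = a⁻¹ * (a * d⁻¹ * a⁻¹ * d) * a := by group
          have h5 : a * d⁻¹ * a⁻¹ * d = (d⁻¹ * (a * d * a⁻¹))⁻¹ := by group
          have h6 := ha1 _ (inv_mem h3)
          rw [h4, h5]
          have h7 : a⁻¹ * (d⁻¹ * (a * d * a⁻¹))⁻¹ * a = a⁻¹ * ((d⁻¹ * (a * d * a⁻¹))⁻¹ * a) := by group
          rw [h7, ← h6]
          rw [← mul_assoc, inv_mul_cancel, one_mul]
          exact inv_mem h3 }
  have hK : ∀ y, y ∈ K ↔ y ∈ M ∧ (∀ w ∈ W, y * w = w * y) ∧ ∀ d ∈ O2 M, d⁻¹ * (y * d * y⁻¹) ∈ W :=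
    fun y => Iff.rfl
  -- squares centralize `O2 M`
  have hsq : ∀ y ∈ K, y * y ∈ O2 M := by
    intro y hy
    apply h.cent M hM
    rw [mem_centralizer_iff]
    intro d hd
    have h3 := ((hK y).1 hy).2.2 d hd
    have h4 := ((hK y).1 hy).2.1 _ h3
    have h5 := hW2 _ h3
    set c := d⁻¹ * (y * d * y⁻¹) with hc
    have h6 : y * d * y⁻¹ = d * c := by rw [hc]; group
    have h7 : y * y * d * y⁻¹ * y⁻¹ = d := by
      have h8 : y * y * d * y⁻¹ * y⁻¹ = (y * (y * d * y⁻¹) * y⁻¹) := by group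
      rw [h8, h6]
      have h9 : y * (d * c) * y⁻¹ = (y * d * y⁻¹) * (y * c * y⁻¹) := by group
      rw [h9, h6, h4, mul_assoc c y y⁻¹, mul_inv_cancel, mul_one, mul_assoc, h5, mul_one]
    have h8 : y * y * d = (y * y * d * y⁻¹ * y⁻¹) * (y * y) := by group
    show d * (y * y) = y * y * d
    rw [h8, h7]
  have hKpg : IsPGroup 2 K := by
    intro y
    obtain ⟨k, hk⟩ := TE.of_pg (O2_pg M) (hsq y y.2)
    refine ⟨k + 1, Subtype.ext ?_⟩
    rw [pow_succ, mul_comm, pow_mul, pow_two]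
    simpa using hk
  have hKn : M ≤ normalizer (K : Set G) := by
    intro m hm
    apply mem_normalizer_of_forall
    intro y hy
    obtain ⟨hy1, hy2, hy3⟩ := (hK y).1 hy
    refine (hK _).2 ⟨mul_mem (mul_mem hm hy1) (inv_mem hm), fun w hw => ?_, fun d hd => ?_⟩
    · have h3 := inv_conj_mem_of_mem_normalizer (hWM hm) hw
      have h4 := hy2 _ h3
      have h5 : m * y * m⁻¹ * w = m * (y * (m⁻¹ * w * m)) * m⁻¹ := by group
      rw [h5, h4]
      group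
    · have h3 : m⁻¹ * d * m ∈ O2 M := by
        have := O2_conj (inv_mem hm) hd
        simpa using this
      have h4 := hy3 _ h3
      have h5 : d⁻¹ * (m * y * m⁻¹ * d * (m * y * m⁻¹)⁻¹) =
          m * ((m⁻¹ * d * m)⁻¹ * (y * (m⁻¹ * d * m) * y⁻¹)) * m⁻¹ := by group
      rw [h5]
      exact conj_mem_of_mem_normalizer (hWM hm) h4
  exact le_O2 (fun y hy => ((hK y).1 hy).1) hKpg hKn ((hK y).2 ⟨hy, h1, h2⟩)

end Hyp

/-- a non-2-closed subgroup with nontrivial 2-core is inside a member of `𝓜` -/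
theorem Hyp.exists_InM {X : Subgroup G} (hn : ¬ TC X) (hX : O2 X ≠ ⊥) :
    ∃ M : Subgroup G, InM M ∧ X ≤ M := by
  obtain ⟨M, h1, h2, h3⟩ := exists_max (O2_pg X) hX
  have h4 : X ≤ M := (O2_le_normalizer X).trans h1
  exact ⟨M, ⟨h2, h3, fun h5 => hn (h5.mono h4)⟩, h4⟩

theorem ne_bot_of_mem {H : Subgroup G} {x : G} (hx : x ∈ H) (h1 : x ≠ 1) : H ≠ ⊥ := by
  rintro rfl
  exact h1 (mem_bot.1 hx)

end Cfsg.Agent.H317
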