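import Cfsg.Agent.H317.CaseI
import Cfsg.Agent.H317.Four
import Cfsg.Agent.S0214
import Cfsg.Agent.S1169

/-!
# The local analysis for simple groups (helper317)
-/

set_option autoImplicit false

namespace Cfsg.Agent.H317

open Subgroup

variable {G : Type*} [Group G] [Finite G]

theorem IsSyl.exists_top {S : Subgroup G} (hS : IsSyl S ⊤) : ∃ T : Sylow 2 G, (T : Subgroup G) = S :=
  ⟨⟨S, hS.pg, fun {_} hR hle => hS.max _ hle le_top hR⟩, rfl⟩

/-- no members of `𝓜`: Sylow 2-subgroups are TI -/
theorem norm_le_of_empty (hno : ∀ M : Subgroup G, ¬ InM M) {S : Subgroup G} (hS : IsSyl S ⊤) (n : ℕ) :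
    ∀ U : Subgroup G, U ≤ S → U ≠ ⊥ → Nat.card S ≤ Nat.card U + n → normalizer (U : Set G) ≤ normalizer (S : Set G) := by
  induction n with
  | zero =>
    intro U hU _ hc
    have h1 : U = S := Subgroup.eq_of_le_of_card_ge hU (by omega)
    rw [h1]
  | succ n ih =>
    intro U hU hU1 hc
    by_cases hUS : U = S
    · rw [hUS]
    set N := normalizer (U : Set G) with hN
    have hUpg := hS.pg.to_le hU
    have hUO : U ≤ O2 N := le_O2 le_normalizer hUpg le_rfl
    have hTC : TC N := by
      by_contra h1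
      obtain ⟨M, hM, -⟩ := Hyp.exists_InM h1 (fun h2 => hU1 (eq_bot_iff.2 (h2 ▸ hUO)))
      exact hno M hM
    obtain ⟨x, hxS, hxU, hxn⟩ := exists_norm hU hUS hS.pg
    set U1 := S ⊓ N with hU1d
    have hlt : U ≤ U1 := le_inf hU le_normalizer
    have hne : U ≠ U1 := by
      intro h1
      apply hxU
      rw [h1]
      exact ⟨hxS, hxn⟩
    have hcard : Nat.card U < Nat.card U1 := by
      have h1 := two_mul_card_le hlt hne
      have h2 := card_pos' U
      omega
    have h1 := ih U1 inf_le_left (fun h2 => hU1 (eq_bot_iff.2 (h2 ▸ hlt))) (by omega)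
    have h2 : U1 ≤ O2 N := fun y hy => hTC y hy.2 (TE.of_pg hS.pg hy.1)
    have h3 : O2 N = U1 := by
      by_contra h4
      obtain ⟨r, hr, hrU, hrn⟩ := exists_norm h2 (Ne.symm h4) (O2_pg N)
      apply hrU
      exact ⟨hS.mem_of_normalizer (mem_top r) (TE.of_pg (O2_pg N) hr) (h1 hrn), O2_le N hr⟩
    have h4 := O2_le_normalizer N
    rw [h3] at h4
    exact h4.trans h1

theorem even_of_simple [IsSimpleGroup G] (hna : ∃ a b : G, a * b ≠ b * a) : 2 ∣ Nat.card G := by
  by_contra h1
  have h2 : Odd (Nat.card G) := Nat.not_even_iff_odd.1 (fun h => h1 h.two_dvd)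
  have h3 := Cfsg.Agent.S0205.result h2
  obtain ⟨a, b, hab⟩ := hna
  exact hab (IsSimpleGroup.comm_iff_isSolvable.2 h3 a b)

theorem sylow_ne_bot [IsSimpleGroup G] (hna : ∃ a b : G, a * b ≠ b * a) (T : Sylow 2 G) : (T : Subgroup G) ≠ ⊥ := by
  haveI : Fact (Nat.Prime 2) := ⟨Nat.prime_two⟩
  exact T.ne_bot_of_dvd_card (even_of_simple hna)

theorem not_normal [IsSimpleGroup G] (hna : ∃ a b : G, a * b ≠ b * a) (T : Sylow 2 G) :
    normalizer ((T : Subgroup G) : Set G) ≠ ⊤ := by
  haveI : Fact (Nat.Prime 2) := ⟨Nat.prime_two⟩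
  intro h1
  have h2 : (T : Subgroup G).Normal := Subgroup.normalizer_eq_top_iff.1 h1
  rcases h2.eq_bot_or_eq_top with h3 | h3
  · exact sylow_ne_bot hna T h3
  · have h4 := T.isPGroup'
    rw [h3] at h4
    have h5 : IsPGroup 2 G := IsPGroup.of_equiv h4 Subgroup.topEquiv
    have h6 : Group.IsNilpotent G := h5.isNilpotent
    have h7 : Group.IsSolvable G := inferInstance
    obtain ⟨a, b, hab⟩ := hna
    exact hab (IsSimpleGroup.comm_iff_isSolvable.2 h7 a b)

theorem stronglyEmbedded_of_empty [IsSimpleGroup G] (hna : ∃ a b : G, a * b ≠ b * a)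
    (hno : ∀ M : Subgroup G, ¬ InM M) : ∃ H : Subgroup G, Cfsg.IsStronglyEmbedded H := by
  obtain ⟨T⟩ : Nonempty (Sylow 2 G) := inferInstance
  set H := normalizer ((T : Subgroup G) : Set G) with hH
  have hT := isSyl_top T
  have hTH : IsSyl (T : Subgroup G) H := hT.of_le le_normalizer le_top
  obtain ⟨P⟩ : Nonempty (Sylow 2 H) := inferInstance
  have hP := isSyl_of_sylow P
  have hPT : (P : Subgroup H).map H.subtype ≤ T := hTH.le_of_normalizer hP.le hP.pg hP.le
  refine ⟨H, ?_⟩
  rw [Cfsg.Agent.S0214.result H (not_normal hna T) P]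
  · intro X hX hX1
    have h1 : X.map H.subtype ≤ T := (map_mono hX).trans hPT
    apply norm_le_of_empty hno hT (Nat.card T) _ h1 _ (by omega)
    intro h2
    exact hX1 ((Subgroup.map_eq_bot_iff_of_injective X H.subtype_injective).1 h2)
  · intro h1
    have h2 := hTH.card_eq hP
    rw [h1, Subgroup.map_bot, Subgroup.card_bot] at h2
    exact sylow_ne_bot hna T (Subgroup.card_eq_one.1 h2)

/-- the outcome of the local analysis -/
theorem local_main (h : Hyp G) [IsSimpleGroup G] (hna : ∃ a b : G, a * b ≠ b * a) :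
    (∃ H : Subgroup G, Cfsg.IsStronglyEmbedded H) ∨
    (∃ (T : Sylow 2 G) (A : Subgroup G), Cfsg.IsStronglyClosed A (T : Subgroup G) ∧ ¬ IsMulCommutative A ∧
      ⁅(⊤ : Subgroup A), ⊤⁆ ≤ Subgroup.center A ∧ 16 ≤ Nat.card T) ∨
    ((∀ t : G, orderOf t = 2 → IsPGroup 2 (centralizer ({t} : Set G))) ∧ 8 ∣ Nat.card G) ∨
    Nonempty (G ≃* Matrix.ProjectiveSpecialLinearGroup (Fin 3) (ZMod 3)) ∨ Cfsg.IsM11 G := by
  haveI : Fact (Nat.Prime 2) := ⟨Nat.prime_two⟩
  -- the order is divisible by 8 if a Sylow 2-subgroup properly contains a four-group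
  have h8 : ∀ (T : Sylow 2 G) (V : Subgroup G), V ≤ (T : Subgroup G) → V ≠ T → Nat.card V = 4 → 8 ∣ Nat.card G := by
    intro T V h1 h2 h3
    have h4 := two_mul_card_le h1 h2
    obtain ⟨k, hk⟩ := IsPGroup.iff_card.1 T.isPGroup'
    have h5 : Nat.card T ∣ Nat.card G := Subgroup.card_subgroup_dvd_card _
    refine dvd_trans ?_ h5
    rw [hk] at h4 ⊢
    rcases k with _ | _ | _ | k
    · omega
    · omega
    · omega
    · exact ⟨2 ^ k, by rw [pow_add]; ring⟩
  by_cases hA : ∃ M P : Subgroup G, InM M ∧ IsSyl P M ∧ ¬ IsSyl P ⊤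
  · obtain ⟨M, P, hM, hP, hPn⟩ := hA
    obtain ⟨S, hS, hPS⟩ := exists_isSyl (le_top : P ≤ ⊤) hP.pg
    have hne : P ≠ S := by rintro rfl; exact hPn hS
    obtain ⟨-, V2, Z, c⟩ := h.exists_conf hS hM hP hPS hne
    by_cases hs : Conf.Star S P (O2 M) Z
    · right; left
      exact c.exists_class2 h hs
    · have h4 := c.card_of_not_star h hs
      obtain ⟨T, rfl⟩ := hS.exists_top
      have h5 : O2 M ≠ T := by
        intro h6
        exact hne (le_antisymm hPS (h6 ▸ c.VP))
      have h6 := h.cent _ c.inM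
      rw [c.oV] at h6
      rcases four h hna T (c.VP.trans c.PS) h5 c.eaV h4 h6 with h7 | h7
      · right; right; left
        exact ⟨h7, h8 T _ (c.VP.trans c.PS) h5 h4⟩
      · right; right; right
        exact h7
  push Not at hA
  have hall : ∀ M : Subgroup G, InM M → ∀ P, IsSyl P M → IsSyl P ⊤ := fun M hM P hP => hA M P hM hP
  -- strongly closed abelian subgroups
  have hsc : ∀ (T : Sylow 2 G) (M : Subgroup G), InM M → IsSyl (T : Subgroup G) M →
      Cfsg.IsStronglyClosed (Z1 (O2 M)) (T : Subgroup G) → ∃ H : Subgroup G, Cfsg.IsStronglyEmbedded H := by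
    intro T M hM hT hV
    have hVc : IsMulCommutative (Z1 (O2 M)) := ⟨⟨fun a b => Subtype.ext (Hyp.V_comm a.2 b.2)⟩⟩
    rcases Cfsg.Agent.S1169.result T (Z1 (O2 M)) hM.V_ne_bot hVc hV with h1 | h1
    · exfalso
      apply hM.ntc
      apply TC_of_le hT
      refine le_trans ?_ (h.cent M hM)
      intro x hx
      rw [mem_centralizer_iff]
      intro y hy
      exact congrArg Subtype.val (h1.is_comm.comm (⟨y, O2_le_of_isSyl hT hy⟩ : (T : Subgroup G)) ⟨x, hx⟩)
    · exact h1
  by_cases hB : ∃ M P : Subgroup G, InM M ∧ IsSyl P M ∧ Z1 P = Z1 (O2 M)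
  · obtain ⟨M, P, hM, hP, hz⟩ := hB
    left
    have hPG := hall M hM P hP
    obtain ⟨T, rfl⟩ := hPG.exists_top
    apply hsc T M hM hP
    refine ⟨(Z1_le _).trans (O2_le_of_isSyl hP), fun x hx g hg => ?_⟩
    exact caseI h hM hP hPG hz hall hx hg
  push Not at hB
  by_cases hC : ∃ M : Subgroup G, InM M
  · obtain ⟨M, hM⟩ := hC
    obtain ⟨P, hP⟩ := exists_isSyl' M
    have hPG := hall M hM P hP
    obtain ⟨T, rfl⟩ := hPG.exists_top
    by_cases hD : ∃ M' : Subgroup G, InM M' ∧ IsSyl (T : Subgroup G) M' ∧ M ≠ M'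
    · obtain ⟨M', hM', hP', hne⟩ := hD
      obtain ⟨e1, e2, e3, e4, e5⟩ := h.pair hM hM' hne hP hP' (hB M _ hM hP) (hB M' _ hM' hP')
      have hVT : O2 M ≤ T := O2_le_of_isSyl hP
      have hVT' : O2 M' ≤ T := O2_le_of_isSyl hP'
      have hVne : O2 M ≠ T := fun h1 => hM.ntc (TC_of_le hP h1.ge)
      have hEA : EA (O2 M) := by rw [e1]; exact EA.Z1 _
      have hEA' : EA (O2 M') := by rw [e2]; exact EA.Z1 _
      by_cases h4 : Nat.card (O2 M) = 4
      · rcases four h hna T hVT hVne hEA h4 (h.cent M hM) with h7 | h7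
        · right; right; left
          exact ⟨h7, h8 T _ hVT hVne h4⟩
        · right; right; right
          exact h7
      · right; left
        have hTn : (T : Subgroup G) ≤ normalizer (O2 M : Set G) := hP.le.trans (O2_le_normalizer M)
        have hTn' : (T : Subgroup G) ≤ normalizer (O2 M' : Set G) := hP'.le.trans (O2_le_normalizer M')
        have hnc : ¬ IsMulCommutative (T : Subgroup G) := by
          intro h1
          apply hM.ntc
          apply TC_of_le hP
          refine le_trans ?_ (h.cent M hM)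
          intro x hx
          rw [mem_centralizer_iff]
          intro y hy
          exact congrArg Subtype.val (h1.is_comm.comm (⟨y, hVT hy⟩ : (T : Subgroup G)) ⟨x, hx⟩)
        refine ⟨T, T, ⟨le_rfl, fun _ _ _ hg => hg⟩, hnc, ?_, ?_⟩
        · -- the commutator subgroup
          have key : ∀ (A B : Subgroup G), EA A → EA B → (T : Subgroup G) = A ⊔ B → A ≤ T → B ≤ T →
              (T : Subgroup G) ≤ normalizer (A : Set G) → (T : Subgroup G) ≤ normalizer (B : Set G) →
              ∀ x ∈ (T : Subgroup G), ∀ y ∈ (T : Subgroup G), x * y * x⁻¹ * y⁻¹ ∈ A := by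
            intro A B hA hB hT hAT hBT hAn hBn x hx y hy
            rw [hT] at hx hy
            obtain ⟨a1, ha1, b1, hb1, rfl⟩ := mem_sup_of_norm (hAT.trans hBn) hx
            obtain ⟨a2, ha2, b2, hb2, rfl⟩ := mem_sup_of_norm (hAT.trans hBn) hy
            have h1 : a1 * b1 * (a2 * b2) * (a1 * b1)⁻¹ * (a2 * b2)⁻¹ =
                a1 * (b1 * a2 * b1⁻¹) * ((b1 * b2 * b1⁻¹) * a1⁻¹ * (b1 * b2 * b1⁻¹)⁻¹) *
                  (b1 * b2 * b1⁻¹ * b2⁻¹) * a2⁻¹ := by group
            have h2 : b1 * b2 * b1⁻¹ = b2 := by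
              rw [hB.comm b1 hb1 b2 hb2]
              group
            rw [h1, h2, mul_inv_cancel, mul_one]
            exact mul_mem (mul_mem (mul_mem ha1 (conj_mem_of_mem_normalizer (hAn (hBT hb1)) ha2))
              (conj_mem_of_mem_normalizer (hAn (hBT hb2)) (inv_mem ha1))) (inv_mem ha2)
          have k1 := key (O2 M) (O2 M') hEA hEA' e3 hVT hVT' hTn hTn'
          have k2 := key (O2 M') (O2 M) hEA' hEA (by rw [e3, sup_comm]) hVT' hVT hTn' hTn
          rw [Subgroup.commutator_le]
          rintro ⟨x, hx⟩ - ⟨y, hy⟩ -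
          rw [Subgroup.mem_center_iff]
          rintro ⟨p, hp⟩
          apply Subtype.ext
          show p * (x * y * x⁻¹ * y⁻¹) = (x * y * x⁻¹ * y⁻¹) * p
          have h1 : x * y * x⁻¹ * y⁻¹ ∈ O2 M ⊓ O2 M' := ⟨k1 x hx y hy, k2 x hx y hy⟩
          rw [e4] at h1
          exact h1.2.1 p hp
        · -- the order
          obtain ⟨k, hk⟩ := IsPGroup.iff_card.1 (O2_pg M)
          have h9 : 8 ≤ Nat.card (O2 M) := by
            rcases k with _ | _ | _ | k
            · exfalso
              rw [pow_zero] at hk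
              exact hM.O2_ne_bot (Subgroup.card_eq_one.1 hk)
            · exfalso
              -- `|O₂ M| = |O₂ M'| = 2`: then `T` is generated by two commuting... it centralizes `O₂ M`
              apply hM.ntc
              apply TC_of_le hP
              refine le_trans ?_ (h.cent M hM)
              intro x hx
              rw [mem_centralizer_iff]
              intro y hy
              by_cases hy1 : y = 1
              · rw [hy1]; simp
              have h10 : x * y * x⁻¹ ∈ O2 M := conj_mem_of_mem_normalizer (hTn hx) hy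
              have h11 : ∀ w ∈ O2 M, w = 1 ∨ w = y := by
                intro w hw
                by_contra hcon
                push Not at hcon
                have h12 : zpowers y ≤ O2 M := zpowers_le.2 hy
                have h13 : orderOf y = 2 := sq_iff.2 ⟨hEA.sq y hy, hy1⟩
                have h14 : zpowers y = O2 M :=
                  Subgroup.eq_of_le_of_card_ge h12 (by rw [Nat.card_zpowers, h13, hk]; norm_num)
                rw [← h14] at hw
                obtain ⟨i, rfl⟩ := mem_zpowers_iff.1 hw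
                rcases Int.even_or_odd i with ⟨j, hj⟩ | ⟨j, hj⟩
                · apply hcon.1
                  rw [hj, ← two_mul, zpow_mul, zpow_ofNat, pow_two, hEA.sq y hy, one_zpow]
                · apply hcon.2
                  rw [hj, zpow_add, zpow_mul, zpow_ofNat, pow_two, hEA.sq y hy, one_zpow, one_mul, zpow_one]
              rcases h11 _ h10 with h12 | h12
              · exfalso
                apply hy1
                have h13 : y = x⁻¹ * (x * y * x⁻¹) * x := by group
                rw [h13, h12]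
                group
              · have h13 : x * y = (x * y * x⁻¹) * x := by group
                rw [h13, h12]
            · exfalso
              apply h4
              rw [hk]
              norm_num
            · rw [hk, pow_add]
              have : 0 < 2 ^ k := pow_pos (by norm_num) k
              omega
          have h10 := two_mul_card_le hVT hVne
          omega
    · left
      push Not at hD
      apply hsc T M hM hP
      apply h.stronglyClosed_of T ((Z1_le _).trans (O2_le_of_isSyl hP))
      · intro g hg w hw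
        have h1 : cj g (T : Subgroup G) = T := cj_eq_iff.2 hg
        have h2 := hP.cj_mem g
        rw [h1] at h2
        have h3 := hD _ (hM.cj g) h2
        have h4 : g ∈ M := by
          rw [← hM.norm_O2, ← cj_eq_iff, ← O2_cj, ← h3]
        exact Hyp.V_conj h4 hw
      · intro M' hM' hSM' m hm w hw _
        have h1 := hall M' hM' _ hSM'
        have h2 : (T : Subgroup G) ⊓ M' = T := (h1.max T inf_le_left le_top T.isPGroup').symm
        rw [h2] at hSM'
        have h3 := hD M' hM' hSM'
        rw [← h3] at hm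
        exact Hyp.V_conj hm hw
  · left
    push Not at hC
    exact stronglyEmbedded_of_empty hna hC

end Cfsg.Agent.H317
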