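import Cfsg.Agent.H317.FF

/-!
# Two members of `𝓜` with a common Sylow 2-subgroup (helper317)
-/

set_option autoImplicit false

namespace Cfsg.Agent.H317

open Subgroup

variable {G : Type*} [Group G]

theorem mem_sup_of_norm {H N : Subgroup G} (hn : H ≤ normalizer (N : Set G)) {x : G} (hx : x ∈ H ⊔ N) :
    ∃ a ∈ H, ∃ b ∈ N, x = a * b := by
  have h1 := Subgroup.coe_mul_of_left_le_normalizer_right H N hn
  have h2 : x ∈ ((H ⊔ N : Subgroup G) : Set G) := hx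
  rw [h1] at h2
  obtain ⟨a, ha, b, hb, hab⟩ := Set.mem_mul.1 h2
  exact ⟨a, ha, b, hb, hab.symm⟩

/-- the subgroup generated by the squares -/
def Sq (D : Subgroup G) : Subgroup G := closure {x | ∃ d ∈ D, x = d * d}

theorem Sq_le (D : Subgroup G) : Sq D ≤ D := by
  unfold Sq
  rw [closure_le]
  rintro _ ⟨d, hd, rfl⟩
  exact mul_mem hd hd

theorem cj_Sq (g : G) (D : Subgroup G) : cj g (Sq D) = Sq (cj g D) := by
  unfold Sq cj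
  rw [MonoidHom.map_closure]
  congr 1
  ext x
  constructor
  · rintro ⟨_, ⟨d, hd, rfl⟩, rfl⟩
    exact ⟨_, ⟨d, hd, rfl⟩, by simp⟩
  · rintro ⟨_, ⟨d, hd, rfl⟩, rfl⟩
    exact ⟨_, ⟨d, hd, rfl⟩, by simp⟩

theorem Sq_normalizer (D : Subgroup G) : normalizer (D : Set G) ≤ normalizer (Sq D : Set G) := by
  intro g hg
  rw [← cj_eq_iff] at hg ⊢
  rw [cj_Sq, hg]

variable [Finite G]

theorem InM.V_ne_bot {M : Subgroup G} (hM : InM M) : Z1 (O2 M) ≠ ⊥ := Z1_ne_bot (O2_pg M) hM.O2_ne_bot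

theorem InM.le_norm_V {M : Subgroup G} : M ≤ normalizer (Z1 (O2 M) : Set G) :=
  (O2_le_normalizer M).trans (Z1_normalizer _)

theorem InM.norm_V {M : Subgroup G} (hM : InM M) : normalizer (Z1 (O2 M) : Set G) = M :=
  hM.max _ ((O2_pg M).to_le (Z1_le _)) hM.V_ne_bot InM.le_norm_V

namespace Hyp

variable (h : Hyp G)

include h

theorem pair_half {M1 M2 P : Subgroup G} (hM1 : InM M1) (hM2 : InM M2) (hne : M1 ≠ M2) (h1 : IsSyl P M1)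
    (h2 : IsSyl P M2) (hz2 : Z1 P ≠ Z1 (O2 M2))
    (hc : Nat.card (Z1 (O2 M2)) ≤ Nat.card (Z1 (O2 M1))) :
    Z1 (O2 M1) ⊓ O2 M2 = Z1 P ∧ Nat.card (Z1 (O2 M1)) = Nat.card (Z1 (O2 M2)) ∧ P = Z1 (O2 M1) ⊔ O2 M2 := by
  apply h.offender hM2 h2 hz2 ((Z1_le _).trans (O2_le_of_isSyl h1)) _
    (fun a ha b hb => V_comm ha hb) (fun a ha => ha.2.2) hc
  intro h3
  apply hne
  have h4 : Z1 (O2 M1) ≤ Z1 (O2 M2) := fun x hx => h.mem_V hM2 (h3 hx) hx.2.2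
  have h5 := Subgroup.eq_of_le_of_card_ge h4 hc
  rw [← hM1.norm_V, ← hM2.norm_V, h5]

theorem pair_aux {M1 M2 P : Subgroup G} (hM1 : InM M1) (hM2 : InM M2) (hne : M1 ≠ M2) (h1 : IsSyl P M1)
    (h2 : IsSyl P M2) (hz1 : Z1 P ≠ Z1 (O2 M1)) (hz2 : Z1 P ≠ Z1 (O2 M2)) :
    (Z1 (O2 M1) ⊓ O2 M2 = Z1 P ∧ P = Z1 (O2 M1) ⊔ O2 M2) ∧
    (Z1 (O2 M2) ⊓ O2 M1 = Z1 P ∧ P = Z1 (O2 M2) ⊔ O2 M1) ∧
    Nat.card (Z1 (O2 M1)) = Nat.card (Z1 (O2 M2)) := by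
  rcases le_total (Nat.card (Z1 (O2 M2))) (Nat.card (Z1 (O2 M1))) with hc | hc
  · obtain ⟨h3, h4, h5⟩ := h.pair_half hM1 hM2 hne h1 h2 hz2 hc
    obtain ⟨h6, h7, h8⟩ := h.pair_half hM2 hM1 (Ne.symm hne) h2 h1 hz1 h4.le
    exact ⟨⟨h3, h5⟩, ⟨h6, h8⟩, h4⟩
  · obtain ⟨h6, h7, h8⟩ := h.pair_half hM2 hM1 (Ne.symm hne) h2 h1 hz1 hc
    obtain ⟨h3, h4, h5⟩ := h.pair_half hM1 hM2 hne h1 h2 hz2 h7.le
    exact ⟨⟨h3, h5⟩, ⟨h6, h8⟩, h4⟩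

omit h in
theorem sq_le_aux {M1 M2 P : Subgroup G} (h1 : IsSyl P M1) (h2 : IsSyl P M2)
    (hP : P = Z1 (O2 M1) ⊔ O2 M2) : Sq (O2 M1) ≤ Sq (O2 M2) := by
  unfold Sq
  rw [closure_le]
  rintro _ ⟨d, hd, rfl⟩
  have h3 : d ∈ Z1 (O2 M1) ⊔ O2 M2 := by
    rw [← hP]
    exact O2_le_of_isSyl h1 hd
  have h4 : Z1 (O2 M1) ≤ normalizer (O2 M2 : Set G) :=
    ((Z1_le _).trans (O2_le_of_isSyl h1)).trans (h2.le.trans (O2_le_normalizer M2))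
  obtain ⟨v, hv, e, he, rfl⟩ := mem_sup_of_norm h4 h3
  have h5 : e ∈ O2 M1 := by
    have := mul_mem (inv_mem hv.1) hd
    simpa using this
  have h6 : e * v = v * e := hv.2.1 e h5
  apply Subgroup.subset_closure
  refine ⟨e, he, ?_⟩
  calc v * e * (v * e) = v * (e * v) * e := by group
    _ = v * v * (e * e) := by rw [h6]; group
    _ = e * e := by rw [hv.2.2, one_mul]

/-- **Two members of `𝓜` with a common Sylow 2-subgroup.** -/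
theorem pair {M1 M2 P : Subgroup G} (hM1 : InM M1) (hM2 : InM M2) (hne : M1 ≠ M2) (h1 : IsSyl P M1)
    (h2 : IsSyl P M2) (hz1 : Z1 P ≠ Z1 (O2 M1)) (hz2 : Z1 P ≠ Z1 (O2 M2)) :
    O2 M1 = Z1 (O2 M1) ∧ O2 M2 = Z1 (O2 M2) ∧ P = O2 M1 ⊔ O2 M2 ∧ O2 M1 ⊓ O2 M2 = Z1 P ∧
      Nat.card (O2 M1) = Nat.card (O2 M2) := by
  obtain ⟨⟨h3, h4⟩, ⟨h5, h6⟩, h7⟩ := h.pair_aux hM1 hM2 hne h1 h2 hz1 hz2
  have h8 : Sq (O2 M1) = Sq (O2 M2) := le_antisymm (sq_le_aux h1 h2 h4) (sq_le_aux h2 h1 h6)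
  have h9 : Sq (O2 M1) = ⊥ := by
    by_contra hcon
    apply hne
    have h10 := hM1.max (Sq (O2 M1)) ((O2_pg M1).to_le (Sq_le _)) hcon
      ((O2_le_normalizer M1).trans (Sq_normalizer _))
    have h11 := hM2.max (Sq (O2 M2)) ((O2_pg M2).to_le (Sq_le _)) (by rwa [← h8])
      ((O2_le_normalizer M2).trans (Sq_normalizer _))
    rw [← h10, ← h11, h8]
  have hsq : ∀ D : Subgroup G, Sq D = ⊥ → ∀ d ∈ D, d * d = 1 := by
    intro D hD d hd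
    have h10 : d * d ∈ Sq D := Subgroup.subset_closure ⟨d, hd, rfl⟩
    rw [hD, mem_bot] at h10
    exact h10
  have h10 : O2 M1 = Z1 (O2 M1) :=
    le_antisymm (fun d hd => h.mem_V hM1 hd (hsq _ h9 d hd)) (Z1_le _)
  have h11 : O2 M2 = Z1 (O2 M2) :=
    le_antisymm (fun d hd => h.mem_V hM2 hd (hsq _ (by rw [← h8]; exact h9) d hd)) (Z1_le _)
  refine ⟨h10, h11, ?_, ?_, ?_⟩
  · rw [← h10] at h4
    exact h4
  · rw [← h10] at h3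
    exact h3
  · rw [← h10, ← h11] at h7
    exact h7

end Hyp

end Cfsg.Agent.H317
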