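import Cfsg.Agent.H317.PQ
import Cfsg.Agent.Lib.Cores

/-!
# Reduction to simple groups (helper317)

* `Hyp.sub`: the hypothesis passes to normal subgroups;
* `exists_simple`: a group with trivial `O(G)`, `O₂(G)` satisfying `Hyp` has a simple normal subgroup with trivial
  centralizer.
-/

set_option autoImplicit false

namespace Cfsg.Agent.H317

open Subgroup

section inj

variable {H G : Type*} [Group H] [Group G] {f : H →* G} (hf : Function.Injective f)

include hf

theorem TE_map {x : H} : TE (f x) ↔ TE x := by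
  unfold TE
  simp only [← map_pow]
  constructor
  · rintro ⟨k, hk⟩
    exact ⟨k, hf (by rw [hk, map_one])⟩
  · rintro ⟨k, hk⟩
    exact ⟨k, by rw [hk, map_one]⟩

theorem comap_map (K : Subgroup H) : (K.map f).comap f = K := comap_map_eq_self_of_injective hf K

omit hf in
theorem map_comap {M : Subgroup H} {Q : Subgroup G} (hQ : Q ≤ M.map f) : (Q.comap f).map f = Q := by
  rw [map_comap_eq]
  exact inf_eq_right.2 (hQ.trans (map_le_range f M))

theorem comap_le {M : Subgroup H} {Q : Subgroup G} (hQ : Q ≤ M.map f) : Q.comap f ≤ M := by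
  have h1 := comap_mono (f := f) hQ
  rwa [comap_map hf] at h1

omit hf in
theorem map_normalizer_le (T : Subgroup H) : (normalizer (T : Set H)).map f ≤ normalizer ((T.map f : Subgroup G) : Set G) := by
  rintro _ ⟨x, hx, rfl⟩
  rw [mem_normalizer_iff]
  intro y
  constructor
  · rintro ⟨t, ht, rfl⟩
    exact ⟨x * t * x⁻¹, conj_mem_of_mem_normalizer hx ht, by simp⟩
  · rintro ⟨t, ht, hty⟩
    refine ⟨x⁻¹ * t * x, inv_conj_mem_of_mem_normalizer hx ht, ?_⟩
    rw [map_mul, map_mul, hty, map_inv]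
    group

theorem comap_normalizer_le {K : Subgroup G} (x : H) (hK : K ≤ f.range) (hx : f x ∈ normalizer (K : Set G)) :
    x ∈ normalizer (K.comap f : Set H) := by
  rw [mem_normalizer_iff]
  intro y
  show f y ∈ K ↔ f (x * y * x⁻¹) ∈ K
  rw [map_mul, map_mul, map_inv]
  exact mem_normalizer_iff.1 hx (f y)

theorem isSyl_map {P M : Subgroup H} (h : IsSyl P M) : IsSyl (P.map f) (M.map f) where
  le := map_mono h.le
  pg := h.pg.map _
  max Q h1 h2 h3 := by
    have h4 : P ≤ Q.comap f := map_le_iff_le_comap.1 h1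
    have h5 := h.max (Q.comap f) h4 (comap_le hf h2) (h3.comap_of_injective f hf)
    rw [← h5, map_comap h2]

theorem isSyl_comap {Q : Subgroup G} {M : Subgroup H} (h : IsSyl Q (M.map f)) : IsSyl (Q.comap f) M where
  le := comap_le hf h.le
  pg := h.pg.comap_of_injective f hf
  max R h1 h2 h3 := by
    have h4 : Q ≤ R.map f := by
      rw [← map_comap h.le]
      exact map_mono h1
    have h5 := h.max (R.map f) h4 (map_mono h2) (h3.map f)
    rw [← h5, comap_map hf]

theorem O2_map [Finite G] [Finite H] (M : Subgroup H) : O2 (M.map f) = (O2 M).map f := by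
  apply le_antisymm
  · have h1 : (O2 (M.map f)).comap f ≤ O2 M := by
      apply le_O2 (comap_le hf (O2_le _)) ((O2_pg _).comap_of_injective f hf)
      intro x hx
      exact comap_normalizer_le hf x ((O2_le _).trans (map_le_range f M)) (O2_le_normalizer _ ⟨x, hx, rfl⟩)
    rw [← map_comap (O2_le (M.map f))]
    exact map_mono h1
  · apply le_O2 (map_mono (O2_le M)) ((O2_pg M).map f)
    exact (map_mono (O2_le_normalizer M)).trans (map_normalizer_le _)

theorem TC_map [Finite G] [Finite H] {M : Subgroup H} : TC (M.map f) ↔ TC M := by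
  unfold TC
  rw [O2_map hf]
  constructor
  · intro h x hx h2
    obtain ⟨y, hy, hyx⟩ := h (f x) ⟨x, hx, rfl⟩ ((TE_map hf).2 h2)
    rwa [← hf hyx]
  · rintro h _ ⟨x, hx, rfl⟩ h2
    exact ⟨x, h x hx ((TE_map hf).1 h2), rfl⟩

end inj

variable {G : Type*} [Group G] [Finite G]

theorem inf_norm {N : Subgroup G} [hN : N.Normal] {U : Subgroup G} {x : G} (hx : x ∈ normalizer (U : Set G)) :
    x ∈ normalizer ((U ⊓ N : Subgroup G) : Set G) := by
  apply mem_normalizer_of_forall
  rintro y ⟨hy1, hy2⟩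
  exact ⟨conj_mem_of_mem_normalizer hx hy1, hN.conj_mem y hy2 x⟩

/-- **`Hyp` passes to normal subgroups.** -/
theorem Hyp.sub (h : Hyp G) (N : Subgroup G) [hN : N.Normal] : Hyp N := by
  have hf : Function.Injective N.subtype := N.subtype_injective
  have key : ∀ M0 : Subgroup N, InM M0 → ∃ M : Subgroup G, InM M ∧ M0.map N.subtype = M ⊓ N ∧
      (O2 M0).map N.subtype = O2 M ⊓ N ∧ normalizer (O2 M0 : Set N) = M0 := by
    intro M0 hM0
    obtain ⟨T0, hT0, hT01, hM0T⟩ := hM0.loc
    set T := T0.map N.subtype with hT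
    have hTpg : IsPGroup 2 T := hT0.map _
    have hTb : T ≠ ⊥ := fun h1 => hT01 ((Subgroup.map_eq_bot_iff_of_injective T0 hf).1 h1)
    set NT := normalizer (T : Set G) with hNT
    have h1 : M0.map N.subtype ≤ NT := by
      rw [hM0T]
      exact map_normalizer_le _
    have h2 : ¬ TC (M0.map N.subtype) := fun h3 => hM0.ntc ((TC_map hf).1 h3)
    have h3 : ¬ TC NT := fun h4 => h2 (h4.mono h1)
    have h4 : T ≤ O2 NT := le_O2 le_normalizer hTpg le_rfl
    obtain ⟨M, hM, hNM⟩ := Hyp.exists_InM h3 (fun h5 => hTb (eq_bot_iff.2 (h5 ▸ h4)))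
    have h5 := h.O2_eq_inf hM hNM h3
    have hTN : T ≤ N := map_subtype_le _
    have hTU : T ≤ O2 M ⊓ N := by
      refine le_inf ?_ hTN
      rw [h5] at h4
      exact h4.trans inf_le_right
    set U := O2 M ⊓ N with hU
    have hUN : U ≤ N.subtype.range := by rw [range_subtype]; exact inf_le_right
    have hUpg : IsPGroup 2 U := (O2_pg M).to_le inf_le_left
    set U0 := U.comap N.subtype with hU0
    have hU0map : U0.map N.subtype = U := by
      rw [hU0, map_comap_eq]
      exact inf_eq_right.2 hUN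
    have hMn : ∀ x : N, (x : G) ∈ M → x ∈ normalizer (U0 : Set N) := by
      intro x hx
      apply comap_normalizer_le hf x hUN
      exact inf_norm (O2_le_normalizer M hx)
    have hU0b : U0 ≠ ⊥ := by
      intro h6
      rw [h6, Subgroup.map_bot] at hU0map
      exact hTb (eq_bot_iff.2 (hU0map ▸ hTU))
    have h6 : normalizer (U0 : Set N) = M0 := by
      apply hM0.max U0 (hUpg.comap_of_injective _ hf) hU0b
      intro x hx
      exact hMn x (hNM (h1 ⟨x, hx, rfl⟩))
    have h7 : M0.map N.subtype = M ⊓ N := by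
      apply le_antisymm
      · exact le_inf (h1.trans hNM) (map_subtype_le _)
      · rintro x ⟨hx1, hx2⟩
        refine ⟨⟨x, hx2⟩, ?_, rfl⟩
        rw [← h6]
        exact hMn ⟨x, hx2⟩ hx1
    have h8 : (O2 M0).map N.subtype = O2 M ⊓ N := by
      rw [← O2_map hf, h.O2_eq_inf hM (h1.trans hNM) h2, h7]
      apply le_antisymm
      · exact le_inf inf_le_right (inf_le_left.trans inf_le_right)
      · exact le_inf (le_inf (inf_le_left.trans (O2_le M)) inf_le_right) inf_le_left
    refine ⟨M, hM, h7, h8, ?_⟩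
    have h9 : O2 M0 = U0 := by
      rw [← comap_map hf (O2 M0), h8]
    rw [h9]
    exact h6
  have hmem : ∀ {M0 : Subgroup N} {M : Subgroup G}, (O2 M0).map N.subtype = O2 M ⊓ N → ∀ x : N,
      (x : G) ∈ O2 M → x ∈ O2 M0 := by
    intro M0 M h1 x hx
    have h2 : (x : G) ∈ (O2 M0).map N.subtype := by
      rw [h1]
      exact ⟨hx, x.2⟩
    obtain ⟨y, hy, hyx⟩ := h2
    rwa [← hf hyx]
  constructor
  · -- the centralizer
    intro M0 hM0
    obtain ⟨M, hM, h1, h2, h3⟩ := key M0 hM0
    set C := centralizer (O2 M0 : Set N) with hC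
    have hCM0 : C ≤ M0 := by
      intro x hx
      rw [← h3]
      apply mem_normalizer_of_forall
      intro y hy
      rw [← mem_centralizer_iff.1 hx y hy]
      simpa using hy
    have hodd : ∀ x ∈ C, (orderOf x).Coprime 2 → x = 1 := by
      intro x hx hox
      have hxM : (x : G) ∈ M := by
        have h4 : (x : G) ∈ M0.map N.subtype := ⟨x, hCM0 hx, rfl⟩
        rw [h1] at h4
        exact h4.1
      have hcU : ∀ u ∈ O2 M ⊓ N, (x : G) * u = u * x := by
        intro u hu
        rw [← h2] at hu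
        obtain ⟨u, hu, rfl⟩ := hu
        exact congrArg Subtype.val (mem_centralizer_iff.1 hx u hu).symm
      have h4 : (x : G) ∈ O2 M := by
        apply h.cent M hM
        rw [mem_centralizer_iff]
        intro d hd
        set u := (x : G) * d * (x : G)⁻¹ * d⁻¹ with hu
        have huU : u ∈ O2 M ⊓ N := by
          refine mem_inf.2 ⟨mul_mem (O2_conj hxM hd) (inv_mem hd), ?_⟩
          have h5 : u = (x : G) * (d * (x : G)⁻¹ * d⁻¹) := by rw [hu]; group
          rw [h5]
          exact mul_mem x.2 (hN.conj_mem _ (inv_mem x.2) d)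
        have h5 : ∀ k : ℕ, (x : G) ^ k * d * ((x : G) ^ k)⁻¹ = u ^ k * d := by
          intro k
          induction k with
          | zero => simp
          | succ k ih =>
            have h6 : (x : G) ^ (k + 1) * d * ((x : G) ^ (k + 1))⁻¹ =
                x * ((x : G) ^ k * d * ((x : G) ^ k)⁻¹) * (x : G)⁻¹ := by
              rw [pow_succ']
              group
            rw [h6, ih]
            have h7 : (x : G) * (u ^ k * d) * (x : G)⁻¹ = (x * u ^ k) * (x : G)⁻¹ * (x * d * (x : G)⁻¹) := by group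
            rw [h7]
            have h8 : Commute (x : G) u := hcU u huU
            have h9 : (x : G) * u ^ k = u ^ k * x := (h8.pow_right k).eq
            rw [h9]
            have h10 : (x : G) * d * (x : G)⁻¹ = u * d := by rw [hu]; group
            rw [h10, pow_succ]
            group
        have h6 := h5 (orderOf (x : G))
        rw [pow_orderOf_eq_one] at h6
        have h7 : u ^ orderOf (x : G) = 1 := by
          have h8 : u ^ orderOf (x : G) * d = 1 * d := by rw [← h6]; simp
          exact mul_right_cancel h8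
        have h8 : (orderOf u).Coprime 2 := by
          apply Nat.Coprime.coprime_dvd_left (orderOf_dvd_of_pow_eq_one h7)
          rw [Subgroup.orderOf_coe]
          exact hox
        have h9 : u = 1 := (TE.of_pg (O2_pg M) huU.1).eq_one h8
        have h10 : (x : G) * d = u * (d * x) := by rw [hu]; group
        rw [h10, h9, one_mul]
      apply Subtype.ext
      apply (TE.of_pg (O2_pg M) h4).eq_one
      rw [Subgroup.orderOf_coe]
      exact hox
    have hCpg : IsPGroup 2 C := pg_of_TE fun x hx => TE_of_odd hodd hx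
    apply le_O2 hCM0 hCpg
    intro m hm
    apply mem_normalizer_of_forall
    intro c hc
    rw [hC, mem_centralizer_iff] at hc ⊢
    intro d hd
    have h4 : m⁻¹ * d * m ∈ O2 M0 := by
      have := O2_conj (inv_mem hm) hd
      simpa using this
    have h5 := hc _ h4
    have h6 : d * (m * c * m⁻¹) = m * (m⁻¹ * d * m * c) * m⁻¹ := by group
    rw [h6, h5]
    group
  · -- TI
    intro M0 hM0 P Q hP hQ x hxP hxQ hxO
    obtain ⟨M, hM, h1, h2, h3⟩ := key M0 hM0
    have hP' := isSyl_map hf hP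
    have hQ' := isSyl_map hf hQ
    rw [h1] at hP' hQ'
    obtain ⟨P1, hP1, hPP1⟩ := exists_isSyl (hP'.le.trans inf_le_left) hP'.pg
    obtain ⟨Q1, hQ1, hQQ1⟩ := exists_isSyl (hQ'.le.trans inf_le_left) hQ'.pg
    have h4 := h.ti M hM P1 Q1 hP1 hQ1 x (hPP1 ⟨x, hxP, rfl⟩) (hQQ1 ⟨x, hxQ, rfl⟩)
      (fun h5 => hxO (hmem h2 x h5))
    have h5 : P1 ⊓ N = P.map N.subtype := by
      apply hP'.max _ (le_inf hPP1 (map_subtype_le _)) (inf_le_inf_right N hP1.le)
        (hP1.pg.to_le inf_le_left)
    have h6 : Q1 ⊓ N = Q.map N.subtype := by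
      apply hQ'.max _ (le_inf hQQ1 (map_subtype_le _)) (inf_le_inf_right N hQ1.le)
        (hQ1.pg.to_le inf_le_left)
    have h7 : P.map N.subtype = Q.map N.subtype := by rw [← h5, ← h6, h4]
    exact map_injective hf h7
  · -- centres
    intro M0 hM0 x hx hx2
    obtain ⟨M, hM, h1, h2, h3⟩ := key M0 hM0
    have hxM : (x : G) ∈ O2 M := by
      have h4 : (x : G) ∈ (O2 M0).map N.subtype := ⟨x, hx, rfl⟩
      rw [h2] at h4
      exact h4.1
    obtain ⟨P1, hP1, hxP1⟩ := h.cen M hM x hxM (by rw [← Subgroup.coe_mul, hx2]; rfl)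
    -- `P1 ∩ N` is Sylow in `M ∩ N`
    obtain ⟨Q, hQ⟩ := exists_isSyl' (M ⊓ N)
    obtain ⟨Q1, hQ1, hQQ1⟩ := exists_isSyl (hQ.le.trans inf_le_left) hQ.pg
    obtain ⟨m, hm, rfl⟩ := hP1.exists_cj hQ1
    have h4 : cj m P1 ⊓ N = Q := hQ.max _ (le_inf hQQ1 (hQ.le.trans inf_le_right))
      (inf_le_inf_right N hQ1.le) (hQ1.pg.to_le inf_le_left)
    have hNm : ∀ g : G, cj g N = N := fun g => cj_eq_iff.2 (by rw [Subgroup.normalizer_eq_top]; exact mem_top g)
    have h5 : IsSyl (P1 ⊓ N) (M ⊓ N) := by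
      have h6 := hQ.cj_mem m⁻¹
      rw [← h4, cj_inf, cj_inf, cj_inv_cj, hNm, cj_eq_of_mem (inv_mem hm)] at h6
      exact h6
    rw [← h1] at h5
    have h6 := isSyl_comap hf h5
    refine ⟨_, h6, ?_, ?_, hx2⟩
    · exact ⟨hxP1.1, x.2⟩
    · intro y hy
      apply Subtype.ext
      exact hxP1.2.1 y hy.1

/-! ### the simple normal subgroup -/

theorem O2_normal {N : Subgroup G} (hN : N.Normal) : (O2 N).Normal := by
  constructor
  intro n hn g
  have h1 : cj g (O2 N) = O2 N := by
    rw [← O2_cj, cj_eq_iff.2 (by rw [Subgroup.normalizer_eq_top]; exact mem_top g)]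
  rw [← h1]
  exact conj_mem_cj hn

theorem TC.odd {L : Subgroup G} (h : TC L) (hO : O2 L = ⊥) {x : G} (hx : x ∈ L) (hx2 : x * x = 1) : x = 1 := by
  have h1 := h x hx (TE.of_sq hx2)
  rw [hO] at h1
  exact mem_bot.1 h1

theorem exists_inv {L : Subgroup G} (h : ¬ (Nat.card L).Coprime 2) : ∃ t ∈ L, t * t = 1 ∧ t ≠ 1 := by
  haveI : Fact (Nat.Prime 2) := ⟨Nat.prime_two⟩
  have h1 : 2 ∣ Nat.card L := by
    by_contra h2
    exact h (((Nat.coprime_primes_iff_not_dvd').1 h2))
  obtain ⟨t, ht⟩ := exists_prime_orderOf_dvd_card' 2 h1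
  have h2 := pow_orderOf_eq_one t
  rw [ht, pow_two] at h2
  refine ⟨t, t.2, congrArg Subtype.val h2, fun h3 => ?_⟩
  have h4 : t = 1 := Subtype.ext h3
  rw [h4, orderOf_one] at ht
  norm_num at ht
where
  Nat.coprime_primes_iff_not_dvd' {n : ℕ} : ¬ 2 ∣ n ↔ n.Coprime 2 := by
    rw [Nat.coprime_comm]
    exact (Nat.Prime.coprime_iff_not_dvd Nat.prime_two).symm

end Cfsg.Agent.H317
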