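import Cfsg.Agent.H317.Reduce

/-!
# A simple normal subgroup with trivial centralizer; the hypothesis of S3236 gives `Hyp` (helper317)
-/

set_option autoImplicit false

namespace Cfsg.Agent.H317

open Subgroup

variable {G : Type*} [Group G] [Finite G]

/-- minimal nontrivial subgroups with a property -/
theorem exists_min {p : Subgroup G → Prop} {K0 : Subgroup G} (h0 : K0 ≠ ⊥) (hp : p K0) :
    ∃ K : Subgroup G, K ≤ K0 ∧ K ≠ ⊥ ∧ p K ∧ ∀ L : Subgroup G, L ≤ K → L ≠ ⊥ → p L → L = K := by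
  classical
  let s : Set (Subgroup G) := {K | K ≠ ⊥ ∧ p K}
  have hs : s.Finite := Set.toFinite s
  obtain ⟨K, hK, hmin⟩ := hs.exists_le_minimal (a := K0) ⟨h0, hp⟩
  refine ⟨K, hK, hmin.1.1, hmin.1.2, fun L hL hL1 hpL => ?_⟩
  exact le_antisymm hL (hmin.2 ⟨hL1, hpL⟩ hL)

/-- if `O(G) = O₂(G) = 1` and `Hyp G` then `G` has a simple normal subgroup with trivial centralizer -/
theorem Hyp.exists_simple (h : Hyp G) [Nontrivial G] (hO : Cfsg.oddCore G = ⊥) (hO2 : Cfsg.pCore 2 G = ⊥) :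
    ∃ N : Subgroup G, N.Normal ∧ centralizer (N : Set G) = ⊥ ∧ IsSimpleGroup N ∧ ∃ a b : N, a * b ≠ b * a := by
  have h2n : ∀ W : Subgroup G, W.Normal → IsPGroup 2 W → W = ⊥ := by
    intro W hW h1
    rw [eq_bot_iff, ← hO2]
    exact Cfsg.Agent.Lib.Cores.le_pCore hW h1
  have hoddn : ∀ W : Subgroup G, W.Normal → (Nat.card W).Coprime 2 → W = ⊥ := by
    intro W hW h1
    rw [eq_bot_iff, ← hO]
    exact Cfsg.Agent.Lib.Cores.le_pPrimeCore hW h1
  -- a minimal normal subgroup
  obtain ⟨N, -, hN1, hN, hmin⟩ := exists_min (p := fun N : Subgroup G => N.Normal) (K0 := ⊤)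
    top_ne_bot inferInstance
  have hNn : ∀ g : G, g ∈ normalizer (N : Set G) := by
    intro g
    rw [Subgroup.normalizer_eq_top]
    exact mem_top g
  have hcjN : ∀ g : G, cj g N = N := fun g => cj_eq_iff.2 (hNn g)
  have hO2N : O2 N = ⊥ := h2n _ (O2_normal hN) (O2_pg N)
  have hNe : ¬ (Nat.card N).Coprime 2 := fun h1 => hN1 (hoddn N hN h1)
  -- the centralizer
  have hCN : centralizer (N : Set G) = ⊥ := by
    by_contra hC
    have hCn : (centralizer (N : Set G)).Normal := inferInstance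
    obtain ⟨t, htC, ht, ht1⟩ := exists_inv (L := centralizer (N : Set G)) (fun h1 => hC (hoddn _ hCn h1))
    have h1 : TC N := by
      apply h.TC_of_norm ht ht1 _ (fun x _ => hNn x) hO2N
      intro x hx
      exact mem_centralizer_singleton_iff.2 (mem_centralizer_iff.1 htC x hx)
    obtain ⟨s, hs, hs2, hs1⟩ := exists_inv hNe
    exact hs1 (h1.odd hO2N hs hs2)
  -- minimal `N`-invariant subgroups of `N`
  have hK : ∀ K : Subgroup G, K ≤ N → K ≠ ⊥ → N ≤ normalizer (K : Set G) →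
      (∀ L : Subgroup G, L ≤ K → L ≠ ⊥ → N ≤ normalizer (L : Set G) → L = K) → K = N := by
    intro K hKN hK1 hKn hKmin
    by_contra hne
    -- conjugates
    have hcj : ∀ g : G, cj g K ≤ N ∧ N ≤ normalizer (cj g K : Set G) := by
      intro g
      refine ⟨?_, ?_⟩
      · rw [← hcjN g]
        exact cj_mono hKN
      · rw [← cj_normalizer, ← hcjN g]
        exact cj_mono hKn
    have hdich : ∀ g : G, cj g K = K ∨ K ⊓ cj g K = ⊥ := by
      intro g
      by_cases h1 : K ⊓ cj g K = ⊥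
      · exact Or.inr h1
      · left
        have h2 := hKmin (K ⊓ cj g K) inf_le_left h1 (fun x hx => by
          have e1 := hKn hx
          have e2 := (hcj g).2 hx
          rw [← cj_eq_iff] at e1 e2 ⊢
          rw [cj_inf, e1, e2])
        have h3 : K ≤ cj g K := inf_eq_left.1 h2
        exact (Subgroup.eq_of_le_of_card_ge h3 (card_cj g K).le).symm
    obtain ⟨g, hg⟩ : ∃ g : G, cj g K ≠ K := by
      by_contra hcon
      push Not at hcon
      apply hne
      refine hmin K hKN hK1 ⟨fun n hn g => ?_⟩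
      rw [← hcon g]
      exact conj_mem_cj hn
    have hKg := (hdich g).resolve_left hg
    have hcomm := comm_of_norm (A := K) (B := cj g K) (hKN.trans (hcj g).2) ((hcj g).1.trans hKn) hKg
    set L := N ⊓ centralizer (K : Set G) with hL
    have hKL : cj g K ≤ L := by
      refine le_inf (hcj g).1 ?_
      intro x hx
      rw [mem_centralizer_iff]
      intro y hy
      exact hcomm y hy x hx
    -- `K` has even order
    have hKe : ¬ (Nat.card K).Coprime 2 := by
      intro h1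
      apply hK1
      have h2 : K.subgroupOf N ≤ Cfsg.pPrimeCore 2 N := by
        apply Cfsg.Agent.Lib.Cores.le_pPrimeCore
        · exact (normal_subgroupOf_iff_le_normalizer hKN).2 hKn
        · rw [← Subgroup.card_map_of_injective N.subtype_injective, subgroupOf_map_subtype, inf_eq_left.2 hKN]
          exact h1
      have h3 := map_mono (f := N.subtype) h2
      rw [Cfsg.Agent.Lib.Cores.map_subtype_pPrimeCore 2 hN, subgroupOf_map_subtype, inf_eq_left.2 hKN] at h3
      rw [eq_bot_iff, ← hO]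
      exact h3.trans inf_le_right
    obtain ⟨t, htK, ht, ht1⟩ := exists_inv hKe
    have hX : ∀ x ∈ centralizer ({t} : Set G), x ∈ normalizer (K : Set G) := by
      intro x hx
      rw [← cj_eq_iff]
      rcases hdich x with h1 | h1
      · exact h1
      · exfalso
        apply ht1
        have h2 : t ∈ K ⊓ cj x K := by
          refine mem_inf.2 ⟨htK, ?_⟩
          rw [mem_cj]
          have h3 := mem_centralizer_singleton_iff.1 hx
          have h4 : x⁻¹ * t * x = t := by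
            rw [mul_assoc, ← h3]
            group
          rw [h4]
          exact htK
        rw [h1] at h2
        exact mem_bot.1 h2
    have hO2L : O2 L = ⊥ := by
      rw [eq_bot_iff, ← hO2N]
      apply le_O2 ((O2_le L).trans inf_le_left) (O2_pg L)
      intro x hx
      rw [← cj_eq_iff, ← O2_cj]
      congr 1
      rw [hL, cj_inf, hcjN]
      congr 1
      rw [cj_eq_iff]
      apply mem_normalizer_of_forall
      intro y hy
      rw [mem_centralizer_iff] at hy ⊢
      intro w hw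
      have h1 := hy _ (inv_conj_mem_of_mem_normalizer (hKn hx) hw)
      have h2 : w * (x * y * x⁻¹) = x * (x⁻¹ * w * x * y) * x⁻¹ := by group
      rw [h2, h1]
      group
    have hTCL : TC L := by
      apply h.TC_of_norm ht ht1 _ _ hO2L
      · intro x hx
        exact mem_centralizer_singleton_iff.2 (mem_centralizer_iff.1 hx.2 t htK).symm
      · intro x hx
        apply mem_normalizer_of_forall
        intro y hy
        obtain ⟨hy1, hy2⟩ := mem_inf.1 hy
        refine mem_inf.2 ⟨conj_mem_of_mem_normalizer (hNn x) hy1, ?_⟩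
        rw [mem_centralizer_iff] at hy2 ⊢
        intro w hw
        have h1 := hy2 _ (inv_conj_mem_of_mem_normalizer (hX x hx) hw)
        have h2 : w * (x * y * x⁻¹) = x * (x⁻¹ * w * x * y) * x⁻¹ := by group
        rw [h2, h1]
        group
    have h1 : g * t * g⁻¹ = 1 := by
      apply hTCL.odd hO2L (hKL (conj_mem_cj htK))
      have h2 : g * t * g⁻¹ * (g * t * g⁻¹) = g * (t * t) * g⁻¹ := by group
      rw [h2, ht]
      simp
    apply ht1
    have h2 : t = g⁻¹ * (g * t * g⁻¹) * g := by group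
    rw [h2, h1]
    simp
  refine ⟨N, hN, hCN, ?_, ?_⟩
  · have hnt : Nontrivial N := (Subgroup.nontrivial_iff_ne_bot N).2 hN1
    refine { toNontrivial := hnt, eq_bot_or_eq_top_of_normal := fun H hH => ?_ }
    by_cases hHb : H = ⊥
    · exact Or.inl hHb
    right
    have h1 : H.map N.subtype ≠ ⊥ := fun h2 =>
      hHb ((Subgroup.map_eq_bot_iff_of_injective H N.subtype_injective).1 h2)
    have h2 : N ≤ normalizer ((H.map N.subtype : Subgroup G) : Set G) := by
      intro x hx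
      apply mem_normalizer_of_forall
      rintro _ ⟨y, hy, rfl⟩
      exact ⟨⟨x, hx⟩ * y * ⟨x, hx⟩⁻¹, hH.conj_mem y hy _, by simp⟩
    obtain ⟨K, hKH, hK1, hKn, hKmin⟩ := exists_min (p := fun K : Subgroup G => N ≤ normalizer (K : Set G)) h1 h2
    have h3 := hK K (hKH.trans (map_subtype_le _)) hK1 hKn hKmin
    rw [h3] at hKH
    rw [eq_top_iff]
    intro x _
    obtain ⟨y, hy, hyx⟩ := hKH x.2
    have h4 : y = x := Subtype.ext hyx
    rwa [← h4]
  · by_contra hcon
    push Not at hcon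
    apply hN1
    rw [eq_bot_iff, ← hCN]
    intro x hx
    rw [mem_centralizer_iff]
    intro y hy
    exact congrArg Subtype.val (hcon ⟨y, hy⟩ ⟨x, hx⟩)

/-- the hypothesis of S3236 gives `Hyp` -/
theorem hyp_of (hA : ∀ M : Subgroup G, Cfsg.IsMaximalTwoLocal M → (∀ P : Sylow 2 ↥M, ¬ (P : Subgroup ↥M).Normal) →
      Subgroup.centralizer ((Cfsg.pCore 2 ↥M) : Set ↥M) ≤ Cfsg.pCore 2 ↥M ∧
      (∀ P Q : Sylow 2 (↥M ⧸ Cfsg.pCore 2 ↥M), P ≠ Q → (P : Subgroup (↥M ⧸ Cfsg.pCore 2 ↥M)) ⊓ Q = ⊥) ∧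
      (∀ x ∈ Cfsg.pCore 2 ↥M, orderOf x = 2 → ∃ P : Sylow 2 ↥M, x ∈ (P : Subgroup ↥M) ∧ ∀ y ∈ (P : Subgroup ↥M), y * x = x * y)) :
    Hyp G := by
  haveI : Fact (Nat.Prime 2) := ⟨Nat.prime_two⟩
  have key : ∀ M : Subgroup G, InM M → Cfsg.IsMaximalTwoLocal M ∧ ∀ P : Sylow 2 ↥M, ¬ (P : Subgroup ↥M).Normal := by
    intro M hM
    refine ⟨⟨hM.loc, ?_⟩, fun P hP => hM.ntc ((TC_iff_normal P).2 hP)⟩
    rintro _ ⟨T, hT, hT1, rfl⟩ hle
    exact hM.max T hT hT1 hle
  constructor
  · intro M hM x hx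
    obtain ⟨k1, k2⟩ := key M hM
    obtain ⟨h1, -, -⟩ := hA M k1 k2
    have hxM : x ∈ M := by
      rw [← hM.norm_O2]
      apply mem_normalizer_of_forall
      intro y hy
      rw [← mem_centralizer_iff.1 hx y hy]
      simpa using hy
    refine ⟨⟨x, hxM⟩, h1 ?_, rfl⟩
    rw [mem_centralizer_iff]
    intro y hy
    apply Subtype.ext
    exact mem_centralizer_iff.1 hx y ⟨y, hy, rfl⟩
  · intro M hM P Q hP hQ x hxP hxQ hxO
    obtain ⟨k1, k2⟩ := key M hM
    obtain ⟨-, h1, -⟩ := hA M k1 k2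
    obtain ⟨P', rfl⟩ := hP.exists_sylow
    obtain ⟨Q', rfl⟩ := hQ.exists_sylow
    obtain ⟨x, hxP, rfl⟩ := hxP
    obtain ⟨x', hxQ, hxx⟩ := hxQ
    have hxx' : x' = x := Subtype.ext hxx
    rw [hxx'] at hxQ
    have hpi : Function.Surjective (QuotientGroup.mk' (Cfsg.pCore 2 ↥M)) := QuotientGroup.mk'_surjective _
    by_cases h2 : P'.mapSurjective hpi = Q'.mapSurjective hpi
    · have h3 := congrArg (fun R : Sylow 2 (↥M ⧸ Cfsg.pCore 2 ↥M) =>
        (R : Subgroup (↥M ⧸ Cfsg.pCore 2 ↥M)).comap (QuotientGroup.mk' (Cfsg.pCore 2 ↥M))) h2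
      simp only [Sylow.coe_mapSurjective] at h3
      have hle : ∀ R : Sylow 2 ↥M, (QuotientGroup.mk' (Cfsg.pCore 2 ↥M)).ker ≤ (R : Subgroup ↥M) := by
        intro R
        rw [QuotientGroup.ker_mk']
        exact Cfsg.Agent.Lib.Cores.pCore_le_sylow R
      rw [comap_map_eq_self (hle P'), comap_map_eq_self (hle Q')] at h3
      rw [h3]
    · exfalso
      have h3 := h1 _ _ h2
      have h4 : QuotientGroup.mk' (Cfsg.pCore 2 ↥M) x ∈
          ((P'.mapSurjective hpi : Sylow 2 (↥M ⧸ Cfsg.pCore 2 ↥M)) : Subgroup (↥M ⧸ Cfsg.pCore 2 ↥M)) ⊓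
            ((Q'.mapSurjective hpi : Sylow 2 (↥M ⧸ Cfsg.pCore 2 ↥M)) : Subgroup (↥M ⧸ Cfsg.pCore 2 ↥M)) :=
        mem_inf.2 ⟨⟨x, hxP, rfl⟩, ⟨x, hxQ, rfl⟩⟩
      rw [h3, mem_bot] at h4
      apply hxO
      exact ⟨x, (QuotientGroup.eq_one_iff x).1 h4, rfl⟩
  · intro M hM x hx hx2
    obtain ⟨k1, k2⟩ := key M hM
    obtain ⟨-, -, h1⟩ := hA M k1 k2
    by_cases hx1 : x = 1
    · obtain ⟨P, hP⟩ := exists_isSyl' M
      refine ⟨P, hP, ?_⟩
      rw [hx1]
      exact one_mem _
    · obtain ⟨y, hy, rfl⟩ := hx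
      have hyo : orderOf y = 2 := by
        rw [← Subgroup.orderOf_coe]
        exact orderOf_eq_prime (by rw [pow_two]; exact hx2) hx1
      obtain ⟨P, hyP, hP⟩ := h1 y hy hyo
      refine ⟨_, isSyl_of_sylow P, ⟨y, hyP, rfl⟩, ?_, hx2⟩
      rintro _ ⟨w, hw, rfl⟩
      exact congrArg Subtype.val (hP w hw)

end Cfsg.Agent.H317
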