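import Cfsg.Agent.H317.Conf

/-!
# Tame members of `𝓜` in the configuration `P = V V₂ < S` (helper317)
-/

set_option autoImplicit false

namespace Cfsg.Agent.H317

open Subgroup

section count

variable {G : Type*} [Group G]

theorem relIndex_eq_of_sup {H N L : Subgroup G} (hH : H ≤ L) (hN : N ≤ L) (hn : L ≤ normalizer (N : Set G))
    (hs : L ≤ H ⊔ N) : N.relIndex L = N.relIndex H := by
  have h1 : (N.subgroupOf L).Normal := (normal_subgroupOf_iff_le_normalizer hN).2 hn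
  have h2 : H.subgroupOf L ⊔ N.subgroupOf L = ⊤ := by
    rw [eq_top_iff]
    intro x _
    obtain ⟨a, ha, b, hb, hab⟩ := mem_sup_of_norm (hH.trans hn) (hs x.2)
    have h3 : x = ⟨a, hH ha⟩ * ⟨b, hN hb⟩ := Subtype.ext hab
    rw [h3]
    exact mul_mem (Subgroup.mem_sup_left ha) (Subgroup.mem_sup_right hb)
  have h3 : (N.subgroupOf L).relIndex (H.subgroupOf L) = N.relIndex H := relIndex_subgroupOf hH
  haveI := h1
  have h4 := relIndex_sup_right (H.subgroupOf L) (N.subgroupOf L)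
  rw [h2, relIndex_top_right] at h4
  rw [← h3, ← h4]
  rfl

theorem card_mul_eq [Finite G] {H N L : Subgroup G} (hH : H ≤ L) (hN : N ≤ L) (hn : L ≤ normalizer (N : Set G))
    (hs : L ≤ H ⊔ N) : Nat.card H * Nat.card N = Nat.card (H ⊓ N : Subgroup G) * Nat.card L := by
  have h1 := card_inf_relIndex H N
  have h2 := card_inf_relIndex L N
  rw [inf_eq_right.2 hN, relIndex_eq_of_sup hH hN hn hs] at h2
  rw [← h1, ← h2]
  ring

end count

variable {G : Type*} [Group G] [Finite G]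

namespace Conf

variable {S P V V2 Z : Subgroup G} (c : Conf S P V V2 Z)

include c

theorem index2 (h : Hyp G) (hs : Star S P V Z) {R : Subgroup G} (hR : R ≤ S) {e : G} (he : e ∈ R) (heP : e ∉ P) :
    Nat.card R = 2 * Nat.card (R ⊓ P : Subgroup G) := by
  have h1 := card_inf_relIndex R P
  have hn := c.S_le h hs
  have h2 : P.relIndex R = 2 := by
    rw [relIndex_eq_two_iff]
    refine ⟨e, he, fun b hb => ?_⟩
    by_cases hbP : b ∈ P
    · right
      exact ⟨hbP, fun h3 => heP ((P.mul_mem_cancel_left hbP).1 h3)⟩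
    · left
      exact ⟨c.mul_mem_P h (hn (hR hb)) (hR hb) hbP (hn (hR he)) (hR he) heP, hbP⟩
  rw [← h1, h2, mul_comm]

omit [Finite G] in
theorem V_le : V ≤ normalizer (V2 : Set G) := c.VP.trans c.syl2.le

omit [Finite G] in
theorem P_le : P ≤ normalizer (V : Set G) := c.syl.le

omit [Finite G] in
theorem comm_mem_Z {v w : G} (hv : v ∈ V) (hw : w ∈ V2) : w⁻¹ * v⁻¹ * w * v ∈ Z := by
  apply c.mem_Z
  · have h1 : w⁻¹ * v⁻¹ * w ∈ V := inv_conj_mem_of_mem_normalizer (c.P_le (c.V2P hw)) (inv_mem hv)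
    exact mul_mem h1 hv
  · have h1 : v⁻¹ * w * v ∈ V2 := inv_conj_mem_of_mem_normalizer (c.symm.P_le (c.VP hv)) hw
    have h2 : w⁻¹ * v⁻¹ * w * v = w⁻¹ * (v⁻¹ * w * v) := by group
    rw [h2]
    exact mul_mem (inv_mem hw) h1

theorem card_PVV : Nat.card V * Nat.card V2 = Nat.card Z * Nat.card P := by
  have h1 := card_mul_eq c.VP c.V2P c.symm.P_le c.P_eq.le
  rw [c.Z_eq] at h1
  exact h1

omit [Finite G] in
theorem Z_sq {z : G} (hz : z ∈ Z) : z * z = 1 := c.eaV.sq z (c.ZV hz)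

theorem cj_Z (h : Hyp G) {e : G} (hn : e ∈ normalizer (P : Set G)) (heS : e ∈ S) (heP : e ∉ P) :
    cj e Z = Z := by
  rw [← c.Z_eq, cj_inf, c.swap h hn heS heP, c.symm.swap h hn heS heP, inf_comm]

/-- 6a -/
theorem tame_a (h : Hyp G) (hs : Star S P V Z) {M : Subgroup G} (hM : InM M) (hSM : IsSyl (S ⊓ M) M)
    (hne : S ⊓ M ≠ S) : O2 M ≤ P := by
  obtain ⟨hMe, V2', Z', c'⟩ := h.exists_conf c.hS hM hSM inf_le_left hne
  set V' := O2 M with hV'
  by_contra hcon
  obtain ⟨e, he, heP⟩ := SetLike.not_le_iff_exists.1 hcon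
  have hV'S : V' ≤ S := c'.VP.trans inf_le_left
  have hn := c.S_le h hs
  have heS := hV'S he
  have hen := hn heS
  have hee : e * e = 1 := c'.eaV.sq e he
  have hei : e⁻¹ = e := inv_eq_of_mul_eq_one_left hee
  have h1 := c.inf_le_CZ h c'.eaV he heP hen heS
  have h2 := c.index2 h hs hV'S he heP
  -- `C_Z(e) ≤ V'`
  have hsplit : ∀ y ∈ V', y ∉ P → e * y ∈ V' ⊓ P := by
    intro y hy hyP
    exact ⟨mul_mem he hy, c.mul_mem_P h hen heS heP (hn (hV'S hy)) (hV'S hy) hyP⟩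
  have h3 : ∀ z ∈ Z, z * e = e * z → z ∈ V' := by
    intro z hz hze
    apply h.cent M hM
    rw [mem_centralizer_iff]
    have h4 : ∀ y ∈ V' ⊓ P, y * z = z * y := by
      intro y hy
      exact c.eaV.comm y (c.ZV (h1 hy).1) z (c.ZV hz)
    intro y hy
    by_cases hyP : y ∈ P
    · exact h4 y ⟨hy, hyP⟩
    · have h5 := h4 _ (hsplit y hy hyP)
      have h6 : y = e * (e * y) := by rw [← mul_assoc, hee, one_mul]
      rw [h6, mul_assoc, h5, ← mul_assoc, ← hze, mul_assoc]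
  -- the subgroup `F`
  let F : Subgroup G :=
    { carrier := {p | p ∈ P ∧ p⁻¹ * (e * p * e⁻¹) ∈ Z}
      one_mem' := ⟨one_mem _, by simp⟩
      mul_mem' := by
        rintro a b ⟨ha, ha1⟩ ⟨hb, hb1⟩
        refine ⟨mul_mem ha hb, ?_⟩
        have h5 : (a * b)⁻¹ * (e * (a * b) * e⁻¹) = b⁻¹ * (a⁻¹ * (e * a * e⁻¹)) * (e * b * e⁻¹) := by group
        rw [h5, c.Z_comm ha1 (inv_mem hb), mul_assoc]
        exact mul_mem ha1 hb1
      inv_mem' := by
        rintro a ⟨ha, ha1⟩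
        refine ⟨inv_mem ha, ?_⟩
        have h5 : a⁻¹⁻¹ * (e * a⁻¹ * e⁻¹) = a * (a⁻¹ * (e * a * e⁻¹))⁻¹ * a⁻¹ := by group
        rw [h5, c.Z_comm (inv_mem ha1) ha, mul_assoc, mul_inv_cancel, mul_one]
        exact inv_mem ha1 }
  have hF : ∀ p, p ∈ F ↔ p ∈ P ∧ p⁻¹ * (e * p * e⁻¹) ∈ Z := fun _ => Iff.rfl
  have hFP : F ≤ P := fun p hp => ((hF p).1 hp).1
  have hZF : Z ≤ F := by
    intro z hz
    refine (hF z).2 ⟨c.VP (c.ZV hz), mul_mem (inv_mem hz) ?_⟩
    rw [← c.cj_Z h hen heS heP]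
    exact conj_mem_cj hz
  have hsup : P ≤ F ⊔ V2 := by
    have h5 : V ≤ F ⊔ V2 := by
      intro v hv
      have h6 : e * v * e⁻¹ ∈ V2 := by
        rw [← c.swap h hen heS heP]
        exact conj_mem_cj hv
      have h7 : v * (e * v * e⁻¹) ∈ F := by
        refine (hF _).2 ⟨mul_mem (c.VP hv) (c.V2P h6), ?_⟩
        have h8 : e * (v * (e * v * e⁻¹)) * e⁻¹ = (e * v * e⁻¹) * v := by
          have h9 : e * (v * (e * v * e⁻¹)) * e⁻¹ = (e * v * e⁻¹) * ((e * e) * v * (e * e)⁻¹) := by group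
          rw [h9, hee]
          simp
        rw [h8]
        have h9 := c.comm_mem_Z hv h6
        have h10 : (v * (e * v * e⁻¹))⁻¹ * (e * v * e⁻¹ * v) = (e * v * e⁻¹)⁻¹ * v⁻¹ * (e * v * e⁻¹) * v := by
          group
        rw [h10]
        exact h9
      have h8 : v = v * (e * v * e⁻¹) * (e * v * e⁻¹)⁻¹ := by group
      rw [h8]
      exact mul_mem (Subgroup.mem_sup_left h7) (Subgroup.mem_sup_right (inv_mem h6))
    intro p hp
    rw [c.P_eq] at hp
    exact (sup_le h5 le_sup_right) hp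
  have hFc : Nat.card V ≤ Nat.card F := by
    have h5 := card_mul_eq hFP c.V2P c.symm.P_le hsup
    have h6 := c.card_PVV
    have h7 : Nat.card Z ≤ Nat.card (F ⊓ V2 : Subgroup G) := Subgroup.card_le_of_le (le_inf hZF c.ZV2)
    have h8 : Nat.card V * Nat.card V2 ≤ Nat.card F * Nat.card V2 := by
      rw [h5, h6]
      exact Nat.mul_le_mul_right _ h7
    exact Nat.le_of_mul_le_mul_right h8 (card_pos' V2)
  have hFM : F ≤ M := by
    rw [hMe]
    intro p hp
    obtain ⟨hpP, hpz⟩ := (hF p).1 hp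
    set z := p⁻¹ * (e * p * e⁻¹) with hz
    have h5 : p * e * p⁻¹ = z⁻¹ * e := by
      have h6 : p * e * p⁻¹ = p * z⁻¹ * p⁻¹ * e := by rw [hz]; group
      rw [h6, c.Z_comm (inv_mem hpz) hpP]
      group
    have hzz := c.Z_sq hpz
    have hzi : z⁻¹ = z := inv_eq_of_mul_eq_one_left hzz
    have h6 : z * e = e * z := by
      have h7 : (p * e * p⁻¹) * (p * e * p⁻¹) = 1 := by
        have h8 : (p * e * p⁻¹) * (p * e * p⁻¹) = p * (e * e) * p⁻¹ := by group
        rw [h8, hee]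
        simp
      rw [h5, hzi] at h7
      have h8 : z * e = (z * e)⁻¹ := (inv_eq_of_mul_eq_one_left h7).symm
      rw [h8, mul_inv_rev, hei, hzi]
    have h7 := h3 z hpz h6
    apply mem_normalizer_of_forall
    intro y hy
    have h8 : ∀ y ∈ V' ⊓ P, p * y * p⁻¹ = y := by
      intro y hy
      rw [c.Z_comm (h1 hy).1 hpP]
      group
    by_cases hyP : y ∈ P
    · rw [h8 y ⟨hy, hyP⟩]
      exact hy
    · have h9 := h8 _ (hsplit y hy hyP)
      have h10 : p * y * p⁻¹ = (p * e * p⁻¹) * (p * (e * y) * p⁻¹) := by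
        have h11 : (p * e * p⁻¹) * (p * (e * y) * p⁻¹) = p * (e * e) * y * p⁻¹ := by group
        rw [h11, hee, mul_one]
      rw [h10, h9, h5]
      exact mul_mem (mul_mem (inv_mem h7) he) (hsplit y hy hyP).1
  have hFP' : F ≤ (S ⊓ M) ⊓ P := le_inf (le_inf (hFP.trans c.PS) hFM) hFP
  -- an element of `F` outside `V'`
  have hstar := hs e heS hen heP
  have hCZ := Subgroup.card_le_of_le h1
  obtain ⟨p, hp, hpV⟩ : ∃ p ∈ F, p ∉ V' := by
    by_contra hcon2
    push Not at hcon2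
    have h5 : F ≤ V' ⊓ P := le_inf hcon2 hFP
    have h6 := Subgroup.card_le_of_le h5
    omega
  have h5 : V' ⊓ P ≤ Z' := by
    intro y hy
    exact c'.mem_Z_of_comm h (hFP' hp).1 hpV hy.1 (c.Z_comm (h1 hy).1 (hFP hp))
  have h6 := Subgroup.card_le_of_le h5
  have h7 := c'.card_PVV
  rw [← c'.card_eq] at h7
  have h8 := c.index2 h hs (inf_le_left : S ⊓ M ≤ S) ⟨hV'S he, O2_le M he⟩ heP
  have h9 := Subgroup.card_le_of_le hFP'
  have hZ'pos := card_pos' Z'
  -- `|P'| ≤ 2 |V'|`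
  have h10 : Nat.card (S ⊓ M : Subgroup G) ≤ 2 * Nat.card V' := by
    have h11 : Nat.card Z' * Nat.card (S ⊓ M : Subgroup G) ≤ Nat.card Z' * (2 * Nat.card V') := by
      rw [← h7]
      calc Nat.card V' * Nat.card V' ≤ (2 * Nat.card Z') * Nat.card V' := Nat.mul_le_mul_right _ (by omega)
        _ = _ := by ring
    exact Nat.le_of_mul_le_mul_left h11 hZ'pos
  omega

theorem not_norm (h : Hyp G) : ¬ S ≤ normalizer (V : Set G) := by
  intro h1
  exact c.PneS (c.syl.max S c.PS h1 c.hS.pg).symm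

/-- 6b -/
theorem tame_b (h : Hyp G) (hs : Star S P V Z) {M : Subgroup G} (hM : InM M) (hSM : IsSyl S M)
    (hne : Z1 S ≠ Z1 (O2 M)) : False := by
  have hn := c.S_le h hs
  have hVS : Z1 (O2 M) ≤ S := (Z1_le _).trans (O2_le_of_isSyl hSM)
  have hVM : S ≤ normalizer (Z1 (O2 M) : Set G) := hSM.le.trans InM.le_norm_V
  have key : ¬ (Z1 (O2 M) = V ∨ Z1 (O2 M) = V2) := by
    rintro (h1 | h1)
    · rw [h1] at hVM
      exact c.not_norm h hVM
    · rw [h1] at hVM
      exact c.symm.not_norm h hVM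
  have h1 : Nat.card (Z1 (O2 M)) ≤ Nat.card V := by
    by_contra hcon
    exact key (c.ea_eq h hs (EA.Z1 _) (hVS.trans hn) hVS (by omega))
  have h2 : ¬ V ≤ O2 M := by
    intro h3
    apply key
    left
    have h4 : V ≤ Z1 (O2 M) := fun x hx => h.mem_V hM (h3 hx) (c.eaV.sq x hx)
    exact (Subgroup.eq_of_le_of_card_ge h4 h1).symm
  obtain ⟨-, h3, -⟩ := h.offender hM hSM hne (c.VP.trans c.PS) h2 c.eaV.comm c.eaV.sq h1
  exact key (c.ea_eq h hs (EA.Z1 _) (hVS.trans hn) hVS h3.le)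

end Conf

end Cfsg.Agent.H317
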