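import Cfsg.Agent.H317.Tame

/-!
# Tame members of `𝓜` containing a Sylow 2-subgroup of `G`, in the configuration (helper317)
-/

set_option autoImplicit false

namespace Cfsg.Agent.H317

open Subgroup

theorem comm_act {G : Type*} [Group G] {D W : Subgroup G} {v u e : G}
    (hWD : ∀ w ∈ W, ∀ x ∈ D, x * w = w * x) (heD : e ∈ D)
    (hvW : ∀ w ∈ W, v * w = w * v) (huW : ∀ w ∈ W, u * w = w * u)
    (hve : ∃ c ∈ W, v * e * v⁻¹ = e * c) (hue : ∃ c ∈ W, u * e * u⁻¹ = e * c)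
    (hv : ∀ x ∈ D, ∃ a, (a = 1 ∨ a = e) ∧ ∃ c ∈ W, v * x * v⁻¹ = x * a * c)
    (hu : ∀ x ∈ D, ∃ a, (a = 1 ∨ a = e) ∧ ∃ c ∈ W, u * x * u⁻¹ = x * a * c) :
    ∀ x ∈ D, ∃ c ∈ W, v * (u * x * u⁻¹) * v⁻¹ = u * (v * x * v⁻¹) * u⁻¹ * c := by
  intro x hx
  obtain ⟨a, ha, c1, hc1, h1⟩ := hv x hx
  obtain ⟨b, hb, c2, hc2, h2⟩ := hu x hx
  have haD : a ∈ D := by
    rcases ha with rfl | rfl
    · exact one_mem _
    · exact heD
  have hbD : b ∈ D := by
    rcases hb with rfl | rfl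
    · exact one_mem _
    · exact heD
  have hab : a * b = b * a := by
    rcases ha with rfl | rfl <;> rcases hb with rfl | rfl <;> simp
  obtain ⟨c3, hc3, h3⟩ : ∃ c ∈ W, v * b * v⁻¹ = b * c := by
    rcases hb with rfl | rfl
    · exact ⟨1, one_mem _, by simp⟩
    · exact hve
  obtain ⟨c4, hc4, h4⟩ : ∃ c ∈ W, u * a * u⁻¹ = a * c := by
    rcases ha with rfl | rfl
    · exact ⟨1, one_mem _, by simp⟩
    · exact hue
  have h5 : v * (u * x * u⁻¹) * v⁻¹ = x * a * b * (c1 * c3 * c2) := by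
    rw [h2]
    have h6 : v * (x * b * c2) * v⁻¹ = (v * x * v⁻¹) * (v * b * v⁻¹) * (v * c2 * v⁻¹) := by group
    rw [h6, h1, h3, hvW c2 hc2, mul_assoc c2 v v⁻¹, mul_inv_cancel, mul_one]
    calc x * a * c1 * (b * c3) * c2 = x * a * (c1 * b) * c3 * c2 := by group
      _ = x * a * (b * c1) * c3 * c2 := by rw [hWD c1 hc1 b hbD]
      _ = _ := by group
  have h7 : u * (v * x * v⁻¹) * u⁻¹ = x * a * b * (c2 * c4 * c1) := by
    rw [h1]
    have h6 : u * (x * a * c1) * u⁻¹ = (u * x * u⁻¹) * (u * a * u⁻¹) * (u * c1 * u⁻¹) := by group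
    rw [h6, h2, h4, huW c1 hc1, mul_assoc c1 u u⁻¹, mul_inv_cancel, mul_one]
    calc x * b * c2 * (a * c4) * c1 = x * b * (c2 * a) * c4 * c1 := by group
      _ = x * (b * a) * (c2 * c4 * c1) := by rw [← hWD c2 hc2 a haD]; group
      _ = _ := by rw [← hab]; group
  refine ⟨(c2 * c4 * c1)⁻¹ * (c1 * c3 * c2), ?_, ?_⟩
  · exact mul_mem (inv_mem (mul_mem (mul_mem hc2 hc4) hc1)) (mul_mem (mul_mem hc1 hc3) hc2)
  · rw [h5, h7]
    group

variable {G : Type*} [Group G] [Finite G]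

namespace Conf

variable {S P V V2 Z : Subgroup G} (c : Conf S P V V2 Z)

include c

/-- `[P, P] ≤ Z` -/
theorem PP_le {x y : G} (hx : x ∈ P) (hy : y ∈ P) : x⁻¹ * y⁻¹ * x * y ∈ Z := by
  have key : ∀ {V V2 : Subgroup G}, Conf S P V V2 Z → x⁻¹ * y⁻¹ * x * y ∈ V := by
    intro V V2 c
    obtain ⟨v1, hv1, w1, hw1, rfl⟩ := c.exists_mul hx
    obtain ⟨v2, hv2, w2, hw2, rfl⟩ := c.exists_mul hy
    have hw := c.symm.eaV.comm w1 hw1 w2 hw2
    have n1 : ∀ p ∈ P, ∀ v ∈ V, p⁻¹ * v * p ∈ V := fun p hp v hv =>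
      inv_conj_mem_of_mem_normalizer (c.P_le hp) hv
    have h1 : (v1 * w1)⁻¹ * (v2 * w2)⁻¹ * (v1 * w1) * (v2 * w2) =
        (w1⁻¹ * v1⁻¹ * w1) * ((w2 * w1)⁻¹ * v2⁻¹ * (w2 * w1)) * ((w2 * w1)⁻¹ * v1 * (w2 * w1))
          * (w1⁻¹ * w2⁻¹ * w1 * w2) * (w2⁻¹ * v2 * w2) := by
      group
    rw [h1]
    have h2 : w1⁻¹ * w2⁻¹ * w1 * w2 = 1 := by
      have h3 : w1⁻¹ * w2⁻¹ * w1 * w2 = w1⁻¹ * w2⁻¹ * (w1 * w2) := by group
      rw [h3, hw]
      group
    rw [h2, mul_one]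
    have hw21 : w2 * w1 ∈ P := c.V2P (mul_mem hw2 hw1)
    exact mul_mem (mul_mem (mul_mem (n1 _ (c.V2P hw1) _ (inv_mem hv1)) (n1 _ hw21 _ (inv_mem hv2)))
      (n1 _ hw21 _ hv1)) (n1 _ (c.V2P hw2) _ hv2)
  exact c.mem_Z (key c) (key c.symm)

/-- 6c -/
theorem tame_c (h : Hyp G) (hs : Star S P V Z) {M : Subgroup G} (hM : InM M) (hSM : IsSyl S M)
    (he : Z1 S = Z1 (O2 M)) : False := by
  have hn := c.S_le h hs
  set D := O2 M with hD
  set W := Z1 D with hW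
  have hDS : D ≤ S := O2_le_of_isSyl hSM
  have hWD : W ≤ D := Z1_le D
  -- `W ≤ Z`
  have hWV : W ≤ V := by
    intro x hx
    rw [← c.oV]
    apply h.cent _ c.inM
    rw [c.oV, mem_centralizer_iff]
    intro y hy
    rw [← he] at hx
    exact hx.2.1 y (c.PS (c.VP hy))
  have hWV2 : W ≤ V2 := by
    intro x hx
    rw [← c.oV2]
    apply h.cent _ c.inM2
    rw [c.oV2, mem_centralizer_iff]
    intro y hy
    rw [← he] at hx
    exact hx.2.1 y (c.PS (c.V2P hy))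
  have hWZ : W ≤ Z := fun x hx => c.mem_Z (hWV hx) (hWV2 hx)
  have hVD : ∀ v ∈ V, v ∈ D → v ∈ W := fun v hv hvD => h.mem_V hM hvD (c.eaV.sq v hv)
  have hVM : V ≤ M := (c.VP.trans c.PS).trans hSM.le
  have hWc : ∀ w ∈ W, ∀ x ∈ D, x * w = w * x := fun w hw x hx => hw.2.1 x hx
  have hVW : ∀ v ∈ V, ∀ w ∈ W, v * w = w * v := fun v hv w hw => c.eaV.comm v hv w (hWV hw)
  -- `[v, x] ∈ W` for `x ∈ D ∩ P`
  have hact0 : ∀ v ∈ V, ∀ x ∈ D, x ∈ P → x⁻¹ * (v * x * v⁻¹) ∈ W := by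
    intro v hv x hx hxP
    apply hVD
    · have h1 : x⁻¹ * (v * x * v⁻¹) = (x⁻¹ * v * x) * v⁻¹ := by group
      rw [h1]
      exact mul_mem (inv_conj_mem_of_mem_normalizer (c.P_le hxP) hv) (inv_mem hv)
    · exact mul_mem (inv_mem hx) (O2_conj (hVM hv) hx)
  have hWM : M ≤ normalizer (W : Set G) := InM.le_norm_V
  -- `D ≰ P`
  obtain ⟨d, hd, hdP⟩ : ∃ d ∈ D, d ∉ P := by
    by_contra hcon
    push Not at hcon
    apply c.V_ne h
    apply Subgroup.eq_of_le_of_card_ge _ c.card_eq.ge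
    intro v hv
    apply hWV2
    apply hVD v hv
    exact h.mem_O2_of_trivial hM hWD (fun w hw => hw.2.2) hWM (hVM hv) (hVW v hv)
      fun x hx => hact0 v hv x hx (hcon x hx)
  have hdS := hDS hd
  have hdn := hn hdS
  have hdi : d⁻¹ ∉ P := fun h1 => hdP (by simpa using inv_mem h1)
  set D0 := D ⊓ P with hD0
  have hsplit : ∀ x ∈ D, x ∉ P → d⁻¹ * x ∈ D0 := fun x hx hxP =>
    mem_inf.2 ⟨mul_mem (inv_mem hd) hx,
      c.mul_mem_P h (inv_mem hdn) (inv_mem hdS) hdi (hn (hDS hx)) (hDS hx) hxP⟩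
  have hphi : ∀ v ∈ V, d⁻¹ * (v * d * v⁻¹) ∈ D0 := by
    intro v hv
    refine mem_inf.2 ⟨mul_mem (inv_mem hd) (O2_conj (hVM hv) hd), ?_⟩
    have h1 : d⁻¹ * (v * d * v⁻¹) = (d⁻¹ * v * d) * v⁻¹ := by group
    rw [h1]
    exact mul_mem (inv_conj_mem_of_mem_normalizer hdn (c.VP hv)) (c.VP (inv_mem hv))
  have hact0' : ∀ v ∈ V, ∀ x ∈ D0, ∃ w ∈ W, v * x * v⁻¹ = x * w := by
    intro v hv x hx
    exact ⟨_, hact0 v hv x hx.1 hx.2, by group⟩
  -- the homomorphism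
  let N : Subgroup D0 := W.subgroupOf D0
  haveI hNn : N.Normal := by
    constructor
    intro n hn g
    have h1 : (n : G) ∈ W := hn
    show (g : G) * n * (g : G)⁻¹ ∈ W
    rw [hWc _ h1 g g.2.1, mul_assoc, mul_inv_cancel, mul_one]
    exact h1
  let f : V →* D0 ⧸ N := MonoidHom.mk' (fun v => ((⟨d⁻¹ * (v * d * (v : G)⁻¹), hphi v v.2⟩ : D0) : D0 ⧸ N)) (by
    intro v w
    rw [← QuotientGroup.mk_mul, QuotientGroup.eq]
    show (d⁻¹ * ((v * w : G) * d * (v * w : G)⁻¹))⁻¹ * (d⁻¹ * (v * d * (v : G)⁻¹) * (d⁻¹ * (w * d * (w : G)⁻¹))) ∈ W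
    obtain ⟨t, ht, h1⟩ := hact0' v v.2 _ (hphi w w.2)
    have h2 : d⁻¹ * ((v * w : G) * d * (v * w : G)⁻¹) =
        d⁻¹ * (v * d * (v : G)⁻¹) * (v * (d⁻¹ * (w * d * (w : G)⁻¹)) * (v : G)⁻¹) := by group
    rw [h2, h1]
    have h3 : (d⁻¹ * (v * d * (v : G)⁻¹) * (d⁻¹ * (w * d * (w : G)⁻¹) * t))⁻¹ *
        (d⁻¹ * (v * d * (v : G)⁻¹) * (d⁻¹ * (w * d * (w : G)⁻¹))) = t⁻¹ := by group
    rw [h3]
    exact inv_mem ht)
  have hf : ∀ v : V, f v = ((⟨d⁻¹ * (v * d * (v : G)⁻¹), hphi v v.2⟩ : D0) : D0 ⧸ N) := fun _ => rfl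
  have hker : Nat.card f.ker ≤ Nat.card W := by
    have h1 : f.ker.map V.subtype ≤ W := by
      rintro _ ⟨v, hv, rfl⟩
      have h2 : f v = 1 := hv
      rw [hf, QuotientGroup.eq_one_iff] at h2
      have h3 : d⁻¹ * (v * d * (v : G)⁻¹) ∈ W := h2
      apply hVD v v.2
      apply h.mem_O2_of_trivial hM hWD (fun w hw => hw.2.2) hWM (hVM v.2) (hVW v v.2)
      intro x hx
      by_cases hxP : x ∈ P
      · exact hact0 v v.2 x hx hxP
      · have h4 := hsplit x hx hxP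
        obtain ⟨t, ht, h5⟩ := hact0' v v.2 _ h4
        have h6 : x⁻¹ * (v * x * (v : G)⁻¹) =
            (d⁻¹ * x)⁻¹ * (d⁻¹ * (v * d * (v : G)⁻¹)) * (v * (d⁻¹ * x) * (v : G)⁻¹) := by group
        rw [h6, h5, hWc _ h3 _ (inv_mem h4.1)]
        have h7 : d⁻¹ * (v * d * (v : G)⁻¹) * (d⁻¹ * x)⁻¹ * (d⁻¹ * x * t) = d⁻¹ * (v * d * (v : G)⁻¹) * t := by
          group
        rw [h7]
        exact mul_mem h3 ht
    have h2 := Subgroup.card_le_of_le h1
    rwa [Subgroup.card_map_of_injective V.subtype_injective] at h2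
  have hcard1 : Nat.card f.ker * Nat.card f.range = Nat.card V := by
    rw [← Subgroup.index_ker, Subgroup.card_mul_index]
  have hNc : Nat.card N = Nat.card W := by
    rw [← Subgroup.card_map_of_injective D0.subtype_injective]
    congr 1
    rw [subgroupOf_map_subtype]
    congr 1
    exact inf_eq_left.2 (le_inf hWD (hWV.trans c.VP))
  have hcard2 : Nat.card W * Nat.card (D0 ⧸ N) = Nat.card D0 := by
    rw [← hNc]
    exact Subgroup.card_mul_index N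
  have hr := Subgroup.card_le_card_group f.range
  have hle1 : Nat.card V ≤ Nat.card D0 := by
    rw [← hcard1, ← hcard2]
    exact Nat.mul_le_mul hker hr
  -- the other inequality
  have hVD0 : V ⊓ D0 ≤ W := fun x hx => hVD x hx.1 hx.2.1
  have h1 := card_mul_le (H := V) (K := D0) (L := P) c.VP inf_le_right
  have h2 := Subgroup.card_le_of_le hVD0
  have h3 := c.card_PVV
  rw [← c.card_eq] at h3
  have h4 := Subgroup.card_le_of_le hWZ
  have hVpos := card_pos' V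
  have hWpos := card_pos' W
  have hZpos := card_pos' Z
  have hPpos := card_pos' P
  have h5 : Nat.card Z ≤ Nat.card W := by
    -- `|V|² ≤ |V| |D0| ≤ |V ∩ D0| |P| ≤ |W| |P|`, `|V|² = |Z| |P|`
    have h6 : Nat.card Z * Nat.card P ≤ Nat.card W * Nat.card P := by
      rw [← h3]
      calc Nat.card V * Nat.card V ≤ Nat.card V * Nat.card D0 := Nat.mul_le_mul_left _ hle1
        _ ≤ Nat.card (V ⊓ D0 : Subgroup G) * Nat.card P := h1
        _ ≤ _ := Nat.mul_le_mul_right _ h2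
    exact Nat.le_of_mul_le_mul_right h6 hPpos
  have hWZe : W = Z := Subgroup.eq_of_le_of_card_ge hWZ h5
  have hle2 : Nat.card D0 ≤ Nat.card V := by
    have h6 : Nat.card V * Nat.card D0 ≤ Nat.card V * Nat.card V := by
      rw [h3]
      calc Nat.card V * Nat.card D0 ≤ Nat.card (V ⊓ D0 : Subgroup G) * Nat.card P := h1
        _ ≤ Nat.card W * Nat.card P := Nat.mul_le_mul_right _ h2
        _ ≤ _ := Nat.mul_le_mul_right _ h4
    exact Nat.le_of_mul_le_mul_left h6 hVpos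
  have hD0c : Nat.card D0 = Nat.card V := le_antisymm hle2 hle1
  have hsurj : Function.Surjective f := by
    rw [← MonoidHom.range_eq_top]
    apply Subgroup.eq_top_of_le_card
    have h6 : Nat.card W * Nat.card (D0 ⧸ N) ≤ Nat.card W * Nat.card f.range := by
      rw [hcard2, hD0c, ← hcard1]
      exact Nat.mul_le_mul_right _ hker
    exact Nat.le_of_mul_le_mul_left h6 hWpos
  have hsurj' : ∀ e ∈ D0, ∃ v ∈ V, ∃ w ∈ W, d⁻¹ * (v * d * v⁻¹) = e * w := by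
    intro e he
    obtain ⟨v, hv⟩ := hsurj ((⟨e, he⟩ : D0) : D0 ⧸ N)
    rw [hf, eq_comm, QuotientGroup.eq] at hv
    refine ⟨v, v.2, _, hv, ?_⟩
    show _ = e * (e⁻¹ * (d⁻¹ * (v * d * (v : G)⁻¹)))
    group
  -- the action of `v`
  have hact : ∀ v ∈ V, ∀ e ∈ D0, (∃ w ∈ W, d⁻¹ * (v * d * v⁻¹) = e * w) →
      ∀ x ∈ D, (x ∈ D0 ∧ ∃ w ∈ W, v * x * v⁻¹ = x * w) ∨ (x ∉ D0 ∧ ∃ w ∈ W, v * x * v⁻¹ = x * e * w) := by
    rintro v hv e he ⟨w, hw, hvw⟩ x hx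
    by_cases hxP : x ∈ P
    · exact Or.inl ⟨⟨hx, hxP⟩, hact0' v hv x ⟨hx, hxP⟩⟩
    · right
      refine ⟨fun h6 => hxP h6.2, ?_⟩
      have h4 := hsplit x hx hxP
      obtain ⟨t, ht, h5⟩ := hact0' v hv _ h4
      have h6 : v * x * v⁻¹ = d * (d⁻¹ * (v * d * v⁻¹)) * (v * (d⁻¹ * x) * v⁻¹) := by group
      have h7 := c.PP_le he.2 h4.2
      rw [← hWZe] at h7
      refine ⟨e⁻¹ * (d⁻¹ * x)⁻¹ * e * (d⁻¹ * x) * w * t, mul_mem (mul_mem h7 hw) ht, ?_⟩
      rw [h6, hvw, h5]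
      have h9 : d * (e * w) * (d⁻¹ * x * t) = d * e * (w * (d⁻¹ * x)) * t := by group
      rw [h9, ← hWc w hw _ h4.1]
      group
  -- `2 |Z| < |V|`
  have hstar := hs d hdS hdn hdP
  have h6 : (Z ⊓ centralizer {d} : Subgroup G) = Z := by
    apply inf_eq_left.2
    intro z hz
    rw [← hWZe] at hz
    exact mem_centralizer_singleton_iff.2 (hWc z hz d hd).symm
  rw [h6] at hstar
  have hindex := c.index2 h hs hDS hd hdP
  -- conjugate
  obtain ⟨m, hm, hmS⟩ := exists_cj_ne hSM hM.ntc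
  have hmD : cj m D = D := cj_eq_iff.2 (O2_le_normalizer M hm)
  have hmW : cj m W = W := cj_eq_iff.2 (hWM hm)
  have hD1 : cj m D0 ≤ D := by
    rw [← hmD]
    exact cj_mono inf_le_left
  obtain ⟨e, ⟨heD0, heD1⟩, heW⟩ : ∃ e ∈ D0 ⊓ cj m D0, e ∉ W := by
    by_contra hcon
    push Not at hcon
    have h7 := Subgroup.card_le_of_le (show D0 ⊓ cj m D0 ≤ W from hcon)
    have h8 := card_mul_le (H := D0) (K := cj m D0) (L := D) inf_le_left hD1
    rw [card_cj, hD0c] at h8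
    have h9 : Nat.card D = 2 * Nat.card D0 := hindex
    rw [h9, hD0c] at h8
    have h10 : Nat.card V * Nat.card V ≤ (2 * Nat.card Z) * Nat.card V := by
      calc Nat.card V * Nat.card V ≤ Nat.card (D0 ⊓ cj m D0 : Subgroup G) * (2 * Nat.card V) := h8
        _ ≤ Nat.card W * (2 * Nat.card V) := Nat.mul_le_mul_right _ h7
        _ ≤ Nat.card Z * (2 * Nat.card V) := Nat.mul_le_mul_right _ h4
        _ = _ := by ring
    have h11 := Nat.le_of_mul_le_mul_right h10 hVpos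
    omega
  obtain ⟨v, hv, w, hw, hvw⟩ := hsurj' e heD0
  have heD1' : m⁻¹ * e * m ∈ D0 := mem_cj.1 heD1
  obtain ⟨v1, hv1, w1, hw1, hvw1⟩ := hsurj' _ heD1'
  have hav := hact v hv e heD0 ⟨w, hw, hvw⟩
  have hav1 := hact v1 hv1 _ heD1' ⟨w1, hw1, hvw1⟩
  set u := m * v1 * m⁻¹ with hu
  have hmc : ∀ w ∈ W, m * w * m⁻¹ ∈ W := fun w hw => conj_mem_of_mem_normalizer (hWM hm) hw
  have hmi : ∀ w ∈ W, m⁻¹ * w * m ∈ W := fun w hw => inv_conj_mem_of_mem_normalizer (hWM hm) hw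
  have hmDi : ∀ x ∈ D, m⁻¹ * x * m ∈ D := fun x hx =>
    inv_conj_mem_of_mem_normalizer (O2_le_normalizer M hm) hx
  have hau : ∀ x ∈ D, (x ∈ cj m D0 ∧ ∃ w ∈ W, u * x * u⁻¹ = x * w) ∨
      (x ∉ cj m D0 ∧ ∃ w ∈ W, u * x * u⁻¹ = x * e * w) := by
    intro x hx
    rcases hav1 _ (hmDi x hx) with ⟨h7, t, ht, h8⟩ | ⟨h7, t, ht, h8⟩
    · left
      refine ⟨mem_cj.2 h7, m * t * m⁻¹, hmc t ht, ?_⟩
      have h9 : u * x * u⁻¹ = m * (v1 * (m⁻¹ * x * m) * v1⁻¹) * m⁻¹ := by rw [hu]; group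
      rw [h9, h8]
      group
    · right
      refine ⟨fun h9 => h7 (mem_cj.1 h9), m * t * m⁻¹, hmc t ht, ?_⟩
      have h9 : u * x * u⁻¹ = m * (v1 * (m⁻¹ * x * m) * v1⁻¹) * m⁻¹ := by rw [hu]; group
      rw [h9, h8]
      group
  have huW : ∀ w ∈ W, u * w = w * u := by
    intro w hw
    have h7 := hVW v1 hv1 _ (hmi w hw)
    have h8 : u * w = m * (v1 * (m⁻¹ * w * m)) * m⁻¹ := by rw [hu]; group
    rw [h8, h7, hu]
    group
  have huM : u ∈ M := mul_mem (mul_mem hm (hVM hv1)) (inv_mem hm)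
  have hvM : v ∈ M := hVM hv
  have hy : v * u * v⁻¹ * u⁻¹ ∈ D := by
    apply h.mem_O2_of_trivial hM hWD (fun w hw => hw.2.2) hWM
      (mul_mem (mul_mem (mul_mem hvM huM) (inv_mem hvM)) (inv_mem huM))
    · intro w hw
      have e1 := hVW v hv w hw
      have e2 := huW w hw
      have e3 : v⁻¹ * w = w * v⁻¹ := by
        have h7 : v⁻¹ * w = v⁻¹ * (w * v) * v⁻¹ := by group
        rw [h7, ← e1]
        group
      have e4 : u⁻¹ * w = w * u⁻¹ := by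
        have h7 : u⁻¹ * w = u⁻¹ * (w * u) * u⁻¹ := by group
        rw [h7, ← e2]
        group
      calc v * u * v⁻¹ * u⁻¹ * w = v * u * v⁻¹ * (u⁻¹ * w) := by group
        _ = v * u * (v⁻¹ * w) * u⁻¹ := by rw [e4]; group
        _ = v * (u * w) * v⁻¹ * u⁻¹ := by rw [e3]; group
        _ = (v * w) * u * v⁻¹ * u⁻¹ := by rw [e2]; group
        _ = w * (v * u * v⁻¹ * u⁻¹) := by rw [e1]; group
    · have hex : ∀ x ∈ D, ∃ t ∈ W, v * (u * x * u⁻¹) * v⁻¹ = u * (v * x * v⁻¹) * u⁻¹ * t := by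
        apply comm_act hWc (heD0.1) (hVW v hv) huW
        · rcases hav e heD0.1 with h7 | h7
          · exact h7.2
          · exact absurd heD0 h7.1
        · rcases hau e heD0.1 with h7 | h7
          · exact h7.2
          · exact absurd heD1 h7.1
        · intro x hx
          rcases hav x hx with ⟨-, t, ht, h8⟩ | ⟨-, t, ht, h8⟩
          · exact ⟨1, Or.inl rfl, t, ht, by rw [mul_one, h8]⟩
          · exact ⟨e, Or.inr rfl, t, ht, h8⟩
        · intro x hx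
          rcases hau x hx with ⟨-, t, ht, h8⟩ | ⟨-, t, ht, h8⟩
          · exact ⟨1, Or.inl rfl, t, ht, by rw [mul_one, h8]⟩
          · exact ⟨e, Or.inr rfl, t, ht, h8⟩
      intro x hx
      have h7 : (u * v)⁻¹ * x * (u * v) ∈ D := by
        have := O2_conj (inv_mem (mul_mem huM hvM)) hx
        simpa using this
      obtain ⟨t, ht, h8⟩ := hex _ h7
      have h9 : v * u * v⁻¹ * u⁻¹ * x * (v * u * v⁻¹ * u⁻¹)⁻¹ =
          v * (u * ((u * v)⁻¹ * x * (u * v)) * u⁻¹) * v⁻¹ := by group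
      have h10 : u * (v * ((u * v)⁻¹ * x * (u * v)) * v⁻¹) * u⁻¹ * t = x * t := by group
      rw [h9, h8, h10]
      have h11 : x⁻¹ * (x * t) = t := by group
      rw [h11]
      exact ht
  -- `v, u ∉ D`
  have hvD : v ∉ D := by
    intro h7
    apply heW
    have h8 := hVD v hv h7
    have h9 : d⁻¹ * (v * d * v⁻¹) = 1 := by
      rw [← hWc v h8 d hd]
      group
    rw [h9] at hvw
    have h10 : e = w⁻¹ := eq_inv_of_mul_eq_one_left hvw.symm
    rw [h10]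
    exact inv_mem hw
  have hv1D : v1 ∉ D := by
    intro h7
    apply heW
    have h8 := hVD v1 hv1 h7
    have h9 : d⁻¹ * (v1 * d * v1⁻¹) = 1 := by
      rw [← hWc v1 h8 d hd]
      group
    rw [h9] at hvw1
    have h10 : m⁻¹ * e * m = w1⁻¹ := eq_inv_of_mul_eq_one_left hvw1.symm
    have h11 : e = m * (m⁻¹ * e * m) * m⁻¹ := by group
    rw [h11, h10]
    exact hmc _ (inv_mem hw1)
  have huD : u ∉ D := by
    intro h7
    apply hv1D
    have h8 := hmDi u h7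
    have h9 : m⁻¹ * u * m = v1 := by rw [hu]; group
    rwa [h9] at h8
  -- the contradiction
  have hR1 := hSM.cj_self hm
  have huR : u ∈ cj m S := conj_mem_cj (c.PS (c.VP hv1))
  have h7 : v * u * v⁻¹ ∈ cj m S := by
    have h8 : v * u * v⁻¹ = (v * u * v⁻¹ * u⁻¹) * u := by group
    rw [h8]
    refine mul_mem ?_ huR
    exact O2_le_of_isSyl hR1 hy
  have h8 : v * u * v⁻¹ ∈ cj v (cj m S) := conj_mem_cj huR
  have h9 : v * u * v⁻¹ ∉ D := by
    intro h10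
    apply huD
    have h11 := O2_conj (inv_mem hvM) h10
    have h12 : v⁻¹ * (v * u * v⁻¹) * v⁻¹⁻¹ = u := by group
    rwa [h12] at h11
  have h10 := h.ti M hM _ _ (hR1.cj_self hvM) hR1 _ h8 h7 h9
  have hvS : v ∈ S := c.PS (c.VP hv)
  have h11 := hR1.mem_of_normalizer hvM (TE.of_pg hSM.pg hvS) (cj_eq_iff.1 h10)
  exact hmS (h.ti M hM _ _ hR1 hSM v h11 hvS hvD)

end Conf

end Cfsg.Agent.H317
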